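import Cfsg.Agent.Lib.PlusMult.Main

/-!
The multiplier of `PΩ⁺(2m, q)` in the forms stated.
-/

set_option autoImplicit false

namespace Cfsg.Agent.PlusMult

open Cfsg.Agent.CurtisTitsD Cfsg.Agent.Forms Cfsg.Agent.Forms.PlusStd

universe u

theorem card_mod_of_two {F : Type u} [Field F] [Fintype F] (h2 : (2 : F) = 0) : Fintype.card F % 2 = 0 := by
  by_contra h
  have hr : ringChar F ≠ 2 := fun e => h (FiniteField.even_card_of_char_two e)
  exact Ring.two_ne_zero hr h2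

theorem card_mod_of_ne {F : Type u} [Field F] [Fintype F] (h2 : (2 : F) ≠ 0) : Fintype.card F % 2 = 1 :=
  FiniteField.odd_card_of_char_ne_two fun e => h2 (by
    have : CharP F 2 := e ▸ ringChar.charP F
    exact CharTwo.two_eq_zero)

theorem gcd_odd {q l : ℕ} (hl : Odd l) :
    (q % 4 = 1 → Nat.gcd 4 (q ^ l - 1) = 4) ∧ (q % 4 = 3 → Nat.gcd 4 (q ^ l - 1) = 2) := by
  obtain ⟨k, rfl⟩ := hl
  constructor <;> intro h <;>
    have h1 : q ^ (2 * k + 1) % 4 = q % 4 := by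
      rw [Nat.pow_mod, h, pow_succ, pow_mul]
      simp [Nat.mul_mod, Nat.pow_mod]
  · rw [Nat.gcd_rec, show (q ^ (2 * k + 1) - 1) % 4 = 0 by omega, Nat.gcd_zero_left]
  · rw [Nat.gcd_rec, show (q ^ (2 * k + 1) - 1) % 4 = 2 by omega]
    rfl

theorem gcd_four_even {q l : ℕ} (hl : l ≠ 0) (hq : q % 2 = 0) (hq1 : 0 < q) :
    Nat.gcd 4 (q ^ l - 1) = 1 := by
  have h : q ^ l % 2 = 0 := by rw [Nat.pow_mod, hq, zero_pow hl, Nat.zero_mod]
  have := Nat.one_le_pow l q hq1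
  rw [Nat.gcd_rec]
  rcases (show (q ^ l - 1) % 4 = 1 ∨ (q ^ l - 1) % 4 = 3 by omega) with h | h <;> rw [h] <;> rfl

theorem odd_rank {F : Type u} [Field F] [Fintype F] {q : ℕ} (hF : Fintype.card F = q) (l : ℕ) (hl : 5 ≤ l)
    (hodd : Odd l) :
    Cfsg.HasCyclicSchurMultiplier (Cfsg.POmega F (Cfsg.quadFormPlus l F)) (Nat.gcd 4 (q ^ l - 1)) := by
  refine multiplier_of (by omega) (fun h => by omega) fun E _ _ π K hperf hπ hne hK => ?_
  subst hF
  have hpos : 0 < Fintype.card F := Fintype.card_pos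
  by_cases h2 : (2 : F) = 0
  · rw [gcd_four_even (by omega) (card_mod_of_two h2) hpos, eq_bot_of_two hπ hperf h2 hK]
    exact ⟨MulEquiv.ofUnique⟩
  obtain ⟨k1, k2, -⟩ := kernel_odd hπ hperf h2 (hne h2) hK
  obtain ⟨g1, g3⟩ := gcd_odd (q := Fintype.card F) hodd
  have hq := card_mod_of_ne h2
  by_cases hs : IsSquare (-1 : F)
  · obtain ⟨hc, hcard⟩ := k2 ⟨hodd, hs⟩
    have h4 : Fintype.card F % 4 ≠ 3 := FiniteField.isSquare_neg_one_iff.1 hs
    rw [g1 (by omega), ← hcard]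
    exact ⟨(zmodCyclicMulEquiv hc).symm⟩
  · obtain ⟨hc, hcard⟩ := k1 ⟨hodd, hs⟩
    have h4 : Fintype.card F % 4 = 3 := by
      by_contra h
      exact hs (FiniteField.isSquare_neg_one_iff.2 h)
    rw [g3 h4, ← hcard]
    exact ⟨(zmodCyclicMulEquiv hc).symm⟩

theorem even_rank {F : Type u} [Field F] [Fintype F] {q : ℕ} (hF : Fintype.card F = q) (l : ℕ) (hl : 4 ≤ l)
    (heven : Even l) (hexc : ¬ (l = 4 ∧ q = 2)) :
    Cfsg.HasSchurMultiplier (Cfsg.POmega F (Cfsg.quadFormPlus l F))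
      (Multiplicative (ZMod (Nat.gcd 2 (q ^ l - 1)) × ZMod (Nat.gcd 2 (q ^ l - 1)))) := by
  subst hF
  refine multiplier_of (by omega) (fun h => hexc ⟨h.1, by rw [← h.2, Nat.card_eq_fintype_card]⟩)
    fun E _ _ π K hperf hπ hne hK => ?_
  have hpos : 0 < Fintype.card F := Fintype.card_pos
  have := Nat.one_le_pow l (Fintype.card F) hpos
  by_cases h2 : (2 : F) = 0
  · have h : Fintype.card F ^ l % 2 = 0 := by rw [Nat.pow_mod, card_mod_of_two h2, zero_pow (by omega), Nat.zero_mod]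
    rw [show Nat.gcd 2 (Fintype.card F ^ l - 1) = 1 by
      rw [Nat.gcd_rec, show (Fintype.card F ^ l - 1) % 2 = 1 by omega]; rfl, eq_bot_of_two hπ hperf h2 hK]
    have : Subsingleton (ZMod 1 × ZMod 1) := inferInstance
    have : Subsingleton (Multiplicative (ZMod 1 × ZMod 1)) := this
    let : Unique (Multiplicative (ZMod 1 × ZMod 1)) := uniqueOfSubsingleton 1
    exact ⟨MulEquiv.ofUnique⟩
  obtain ⟨-, -, k3⟩ := kernel_odd hπ hperf h2 (hne h2) hK
  have h : Fintype.card F ^ l % 2 = 1 := by rw [Nat.pow_mod, card_mod_of_ne h2, one_pow, Nat.one_mod]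
  rw [show Nat.gcd 2 (Fintype.card F ^ l - 1) = 2 by
    rw [Nat.gcd_rec, show (Fintype.card F ^ l - 1) % 2 = 0 by omega, Nat.gcd_zero_left]]
  have := k3 heven
  exact IsKleinFour.nonempty_mulEquiv

end Cfsg.Agent.PlusMult
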