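import Cfsg.Prelude.Def_KGroupFacts
import Mathlib

/-!
Lifting homomorphisms from a perfect group with trivial multiplier into central extensions.
-/

set_option autoImplicit false

open scoped commutatorElement

namespace Cfsg.Agent.PlusMult.Lift

universe u v w

variable {G : Type u} [Group G] {E : Type v} [Group E] {Q : Type w} [Group Q]

theorem comm_congr {x x' y y' : E} (hx : x'⁻¹ * x ∈ Subgroup.center E) (hy : y'⁻¹ * y ∈ Subgroup.center E) :
    ⁅x, y⁆ = ⁅x', y'⁆ := by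
  obtain ⟨a, ha, rfl⟩ : ∃ a, a ∈ Subgroup.center E ∧ x = x' * a := ⟨_, hx, (mul_inv_cancel_left x' x).symm⟩
  obtain ⟨b, hb, rfl⟩ : ∃ b, b ∈ Subgroup.center E ∧ y = y' * b := ⟨_, hy, (mul_inv_cancel_left y' y).symm⟩
  have ha' : ∀ g, a * g = g * a := fun g => (Subgroup.mem_center_iff.1 ha g).symm
  have hb' : ∀ g, b * g = g * b := fun g => (Subgroup.mem_center_iff.1 hb g).symm
  simp only [commutatorElement_def, _root_.mul_inv_rev]
  calc x' * a * (y' * b) * (a⁻¹ * x'⁻¹) * (b⁻¹ * y'⁻¹)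
      = x' * (a * (y' * b)) * (a⁻¹ * x'⁻¹) * (b⁻¹ * y'⁻¹) := by group
    _ = x' * ((y' * b) * a) * (a⁻¹ * x'⁻¹) * (b⁻¹ * y'⁻¹) := by rw [ha']
    _ = x' * y' * (b * x'⁻¹) * (b⁻¹ * y'⁻¹) := by group
    _ = x' * y' * (x'⁻¹ * b) * (b⁻¹ * y'⁻¹) := by rw [hb']
    _ = x' * y' * x'⁻¹ * y'⁻¹ := by group

theorem div_mem_center {π : E →* Q} (hc : π.ker ≤ Subgroup.center E) {x x' : E} (h : π x = π x') :
    x'⁻¹ * x ∈ Subgroup.center E :=
  hc (by rw [MonoidHom.mem_ker, map_mul, map_inv, h, inv_mul_cancel])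

/-- Two homomorphisms agreeing over the base agree on commutators. -/
theorem agree {π : E →* Q} (hc : π.ker ≤ Subgroup.center E) {f f' : G →* E} {a b : G}
    (ha : π (f a) = π (f' a)) (hb : π (f b) = π (f' b)) : f ⁅a, b⁆ = f' ⁅a, b⁆ := by
  rw [map_commutatorElement, map_commutatorElement,
    comm_congr (div_mem_center hc ha) (div_mem_center hc hb)]

/-- A central element does not disturb commuting. -/
theorem commute_congr {π : E →* Q} (hc : π.ker ≤ Subgroup.center E) {x y y' : E} (h : π y = π y')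
    (hxy : Commute x y') : Commute x y := by
  have h1 := Subgroup.mem_center_iff.1 (div_mem_center hc h) x
  have : y = y' * (y'⁻¹ * y) := (mul_inv_cancel_left y' y).symm
  rw [this]
  exact hxy.mul_right h1

theorem commutator_eq_top_of_sup {H : Subgroup E} (hperf : commutator E = ⊤)
    (h : ∀ x : E, ∃ y ∈ H, y⁻¹ * x ∈ Subgroup.center E) : H = ⊤ := by
  rw [eq_top_iff, ← hperf, commutator_def, Subgroup.commutator_le]
  intro a _ b _
  obtain ⟨a', ha, ha'⟩ := h a
  obtain ⟨b', hb, hb'⟩ := h b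
  rw [comm_congr ha' hb', commutatorElement_def]
  exact mul_mem (mul_mem (mul_mem ha hb) (inv_mem ha)) (inv_mem hb)

/-- A perfect group with trivial multiplier lifts into every finite central extension. -/
theorem exists_lift [Finite G] [Finite E] (hperf : commutator G = ⊤)
    (htriv : ∀ (Γ : Type (max u v)) [Group Γ] [Finite Γ] (σ : Γ →* G),
      Cfsg.IsStemExtension σ → σ.ker = ⊥)
    (π : E →* Q) (hc : π.ker ≤ Subgroup.center E) (f : G →* Q) (hf : f.range ≤ π.range) :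
    ∃ g : G →* E, π.comp g = f := by
  obtain ⟨P, hP⟩ : ∃ P : Subgroup (G × E), P = (f.comp (MonoidHom.fst G E)).eqLocus (π.comp (MonoidHom.snd G E)) :=
    ⟨_, rfl⟩
  have hmem : ∀ x, x ∈ P ↔ f x.1 = π x.2 := fun x => by rw [hP]; rfl
  have hsur : ∀ a : G, ∃ x ∈ P, x.1 = a := fun a => by
    obtain ⟨e, he⟩ := hf ⟨a, rfl⟩
    exact ⟨(a, e), (hmem _).2 he.symm, rfl⟩
  have hcen : ∀ x ∈ P, x.1 = 1 → ∀ y : G × E, Commute x y := fun x hx h1 y => by
    have h2 : x.2 ∈ Subgroup.center E := hc (by rw [MonoidHom.mem_ker, ← (hmem x).1 hx, h1, map_one])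
    exact Prod.ext (by simp [h1]) (Subgroup.mem_center_iff.1 h2 y.2).symm
  obtain ⟨D, hD⟩ : ∃ D : Subgroup (G × E), D = ⁅P, P⁆ := ⟨_, rfl⟩
  have hDP : D ≤ P := hD ▸ Subgroup.commutator_le.2 fun a ha b hb => by
    rw [commutatorElement_def]
    exact mul_mem (mul_mem (mul_mem ha hb) (inv_mem ha)) (inv_mem hb)
  have hDtop : D.map (MonoidHom.fst G E) = ⊤ := by
    rw [hD, Subgroup.map_commutator, show P.map (MonoidHom.fst G E) = ⊤ from eq_top_iff.2 fun a _ => by
      obtain ⟨x, hx, rfl⟩ := hsur a; exact ⟨x, hx, rfl⟩]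
    exact hperf
  let σ : D →* G := (MonoidHom.fst G E).comp D.subtype
  have hσ : Function.Surjective σ := fun a => by
    obtain ⟨x, hx, rfl⟩ := hDtop.ge (Subgroup.mem_top a)
    exact ⟨⟨x, hx⟩, rfl⟩
  have hperfD : commutator D = ⊤ := by
    refine Subgroup.map_injective D.subtype_injective ?_
    rw [commutator_def, Subgroup.map_commutator, ← MonoidHom.range_eq_map, Subgroup.range_subtype]
    conv_rhs => rw [hD]
    refine le_antisymm (Subgroup.commutator_mono hDP hDP) (Subgroup.commutator_le.2 fun a ha b hb => ?_)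
    have key : ∀ a ∈ P, ∃ a' ∈ D, ∀ y, Commute (a'⁻¹ * a) y := fun a ha => by
      obtain ⟨a', ha', e⟩ := hDtop.ge (Subgroup.mem_top a.1)
      refine ⟨a', ha', hcen _ (mul_mem (inv_mem (hDP ha')) ha) ?_⟩
      simp only [MonoidHom.coe_fst] at e
      simp [e]
    obtain ⟨a', ha', hca⟩ := key a ha
    obtain ⟨b', hb', hcb⟩ := key b hb
    rw [comm_congr (Subgroup.mem_center_iff.2 fun y => (hca y).symm.eq)
      (Subgroup.mem_center_iff.2 fun y => (hcb y).symm.eq)]
    exact Subgroup.commutator_mem_commutator ha' hb'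
  have hstem : Cfsg.IsStemExtension σ := by
    refine ⟨hσ, fun x hx => Subgroup.mem_center_iff.2 fun y => ?_, hperfD ▸ le_top⟩
    exact Subtype.ext (hcen x.1 (hDP x.2) hx y.1).symm.eq
  let e := MulEquiv.ofBijective σ ⟨(MonoidHom.ker_eq_bot_iff σ).1 (htriv D σ hstem), hσ⟩
  refine ⟨((MonoidHom.snd G E).comp D.subtype).comp e.symm.toMonoidHom, MonoidHom.ext fun a => ?_⟩
  have h := (hmem _).1 (hDP (e.symm a).2)
  exact h.symm.trans (congrArg f (e.apply_symm_apply a))

end Cfsg.Agent.PlusMult.Lift
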