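import Cfsg.Agent.Lib.PlusMult.Mid
import Mathlib.LinearAlgebra.ExteriorAlgebra.Basis

/-!
The spin group of a split form, acting on an exterior algebra: a perfect double cover of `Ω`.
-/

set_option autoImplicit false
set_option linter.unusedSectionVars false

open scoped commutatorElement

namespace Cfsg.Agent.PlusMult

open Matrix Cfsg.Agent.SimpleFacts.SLnRootLifts Cfsg.Agent.CurtisTitsD
  Cfsg.Agent.Forms Cfsg.Agent.Forms.QuadStd Cfsg.Agent.Forms.Reflections Cfsg.Agent.Forms.PlusStd
  Cfsg.Agent.Classical.Orth Cfsg.Agent.Chevalley.Natural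

universe u

variable {m : ℕ} {F : Type u} [Field F] [Finite F]

local notation "Vec" => (Fin m ⊕ Fin m → F)
local notation "B" => QuadraticMap.polar (plusQ F m)

/-- The module. -/
abbrev SpMod (m : ℕ) (F : Type u) [Field F] := ExteriorAlgebra F (Fin m → F)

/-- The pairing by the second half. -/
noncomputable def dualPart : Vec →ₗ[F] Module.Dual F (Fin m → F) :=
  LinearMap.mk₂ F (fun v x => ∑ i, v (Sum.inr i) * x i)
    (fun v w x => by simp [add_mul, Finset.sum_add_distrib])
    (fun c v x => by simp [Finset.mul_sum, mul_assoc])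
    (fun v x y => by simp [mul_add, Finset.sum_add_distrib])
    (fun c v x => by simp [Finset.mul_sum, mul_left_comm])

/-- The Clifford map. -/
noncomputable def phi : Vec →ₗ[F] Module.End F (SpMod m F) :=
  ((LinearMap.mul F (SpMod m F)).comp ((ExteriorAlgebra.ι F).comp (LinearMap.funLeft F F Sum.inl))) +
    (CliffordAlgebra.contractLeft (Q := (0 : QuadraticForm F (Fin m → F)))).comp dualPart

theorem phi_apply (v : Vec) (a : SpMod m F) :
    phi v a = ExteriorAlgebra.ι F (fun i => v (Sum.inl i)) * a +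
      CliffordAlgebra.contractLeft (dualPart v) a := rfl

theorem phi_sq (v : Vec) : phi v * phi v = plusQ F m v • (1 : Module.End F (SpMod m F)) := by
  refine LinearMap.ext fun a => ?_
  rw [Module.End.mul_apply, LinearMap.smul_apply, Module.End.one_apply, phi_apply, phi_apply, map_add,
    CliffordAlgebra.contractLeft_contractLeft, mul_add, ← mul_assoc, ExteriorAlgebra.ι_sq_zero, zero_mul]
  rw [show CliffordAlgebra.contractLeft (dualPart v) (ExteriorAlgebra.ι F (fun i => v (Sum.inl i)) * a) =
    dualPart v (fun i => v (Sum.inl i)) • a -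
      ExteriorAlgebra.ι F (fun i => v (Sum.inl i)) * CliffordAlgebra.contractLeft (dualPart v) a from
    CliffordAlgebra.contractLeft_ι_mul _ _ _]
  rw [zero_add, add_zero, add_sub_cancel, plusQ_apply]
  congr 1
  simp [dualPart, Cfsg.quadFormPlus, mul_comm]

theorem phi_anti (u v : Vec) :
    phi u * phi v + phi v * phi u = B u v • (1 : Module.End F (SpMod m F)) := by
  have h := phi_sq (u + v)
  simp only [map_add, add_mul, mul_add, phi_sq] at h
  simp only [QuadraticMap.polar]
  linear_combination (norm := module) h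

section Alg

variable {R : Type u} [Ring R] [Algebra F R] {p q r p' q' r' v v' : R}

theorem alg_sq (uu : p * p = 0) (wu : q * p + p * q = 0) : (p * q) * (p * q) = 0 := by
  have e : q * p = -(p * q) := eq_neg_of_add_eq_zero_left wu
  calc (p * q) * (p * q) = p * (q * p) * q := by simp only [mul_assoc]
    _ = -((p * p) * (q * q)) := by rw [e]; simp only [mul_neg, neg_mul, mul_assoc]
    _ = 0 := by rw [uu, zero_mul, neg_zero]

theorem alg_lift {x : R} {a b c : F} (uu : p * p = 0) (ww : q * q = c • 1) (wu : q * p + p * q = 0)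
    (ux : p * x + x * p = a • 1) (wx : q * x + x * q = b • 1) :
    (1 - p * q) * x = (x + a • q - b • p - (c * a) • p) * (1 - p * q) := by
  have e : q * p = -(p * q) := eq_neg_of_add_eq_zero_left wu
  have e1 : q * x = b • 1 - x * q := eq_sub_of_add_eq wx
  have e2 : p * x = a • 1 - x * p := eq_sub_of_add_eq ux
  have h1 : p * q * x = b • p - a • q + x * p * q := by
    rw [mul_assoc, e1, mul_sub, mul_smul_comm, mul_one, ← mul_assoc, e2, sub_mul, smul_mul_assoc, one_mul]
    abel
  have gu : p * (1 - p * q) = p := by rw [mul_sub, mul_one, ← mul_assoc, uu, zero_mul, sub_zero]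
  have gw : q * (1 - p * q) = q + c • p := by
    rw [mul_sub, mul_one, ← mul_assoc, e, neg_mul, mul_assoc, ww, mul_smul_comm, mul_one, sub_neg_eq_add]
  have hr : (x + a • q - b • p - (c * a) • p) * (1 - p * q) =
      x * (1 - p * q) + a • (q + c • p) - b • p - (c * a) • p := by
    rw [sub_mul (x + a • q - b • p), sub_mul (x + a • q), add_mul x, smul_mul_assoc, smul_mul_assoc,
      smul_mul_assoc, gu, gw]
  rw [hr, sub_mul, one_mul, h1, mul_sub, mul_one, ← mul_assoc]
  module

theorem alg_reflect {c : F} (pp : p * p = 1) (h : p * v + v * p = c • 1) : p * v = -((v - c • p) * p) := by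
  rw [sub_mul, smul_mul_assoc, pp, neg_sub, ← h, add_sub_cancel_right]

theorem alg_pair (hq : q * v = -(v' * q)) (hp : p * v' = -(r * p)) : p * q * v = r * (p * q) := by
  rw [mul_assoc, hq, mul_neg, ← mul_assoc, hp, neg_mul, neg_neg, mul_assoc]

theorem alg_noncomm [Nontrivial R] (h2 : (2 : F) ≠ 0) (pp : p * p = 1) (qq : q * q = 1) (rr : r * r = 1)
    (pq : p * q + q * p = 0) (qr : q * r + r * q = 0) (pr : p * r + r * p = 0) :
    p * q * (q * r) ≠ q * r * (p * q) := by
  intro e
  have e1 : r * p = -(p * r) := eq_neg_of_add_eq_zero_right pr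
  have e2 : q * p = -(p * q) := eq_neg_of_add_eq_zero_right pq
  have e3 : r * q = -(q * r) := eq_neg_of_add_eq_zero_right qr
  have r1 : q * r * (p * q) = -(p * r) :=
    calc q * r * (p * q) = q * (r * p) * q := by simp only [mul_assoc]
      _ = -((q * p) * (r * q)) := by rw [e1]; simp only [mul_neg, neg_mul, mul_assoc]
      _ = -(p * (q * q) * r) := by rw [e2, e3]; simp only [mul_neg, neg_mul, neg_neg, mul_assoc]
      _ = -(p * r) := by rw [qq, mul_one]
  rw [r1, show p * q * (q * r) = p * (q * q) * r by simp only [mul_assoc], qq, mul_one] at e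
  have h20 : (2 : F) • (p * r) = 0 := by rw [two_smul]; nth_rewrite 1 [e]; exact neg_add_cancel _
  have h0 : p * r = 0 := by
    have := congrArg (fun x => (2 : F)⁻¹ • x) h20
    simpa [smul_smul, inv_mul_cancel₀ h2] using this
  refine one_ne_zero (α := R) ?_
  calc (1 : R) = p * (r * r) * p := by rw [rr, mul_one, pp]
    _ = (p * r) * (r * p) := by simp only [mul_assoc]
    _ = 0 := by rw [h0, zero_mul]

end Alg

variable {u w : Fin m ⊕ Fin m → F}

theorem phi_uw_sq (hu : plusQ F m u = 0) (huw : B u w = 0) :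
    (phi u * phi w) * (phi u * phi w) = 0 :=
  alg_sq (p := phi u) (q := phi w) (by rw [phi_sq, hu, zero_smul]) (by rw [phi_anti, QuadraticMap.polar_comm, huw, zero_smul])

/-- The lift of an Eichler element. -/
noncomputable def rootUnit (u w : Fin m ⊕ Fin m → F) (hu : plusQ F m u = 0) (huw : B u w = 0) :
    (Module.End F (SpMod m F))ˣ where
  val := 1 - phi u * phi w
  inv := 1 + phi u * phi w
  val_inv := by
    rw [sub_mul, one_mul, mul_add, mul_one, phi_uw_sq hu huw, add_zero, add_sub_cancel_right]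
  inv_val := by
    rw [add_mul, one_mul, mul_sub, mul_one, phi_uw_sq hu huw, sub_zero, sub_add_cancel]

theorem rootUnit_lifts (hu : plusQ F m u = 0) (huw : B u w = 0) (x : Vec) :
    (1 - phi u * phi w) * phi x = phi (act (eich u w hu huw) x) * (1 - phi u * phi w) := by
  rw [act_eich, map_sub, map_sub, map_add, map_smul, map_smul, map_smul]
  exact alg_lift (F := F) (R := Module.End F (SpMod m F)) (p := phi u) (q := phi w) (x := phi x)
    (a := B x u) (b := B x w) (c := plusQ F m w) (by rw [phi_sq, hu, zero_smul]) (phi_sq w)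
    (by rw [phi_anti, QuadraticMap.polar_comm, huw, zero_smul])
    (by rw [phi_anti, QuadraticMap.polar_comm]) (by rw [phi_anti, QuadraticMap.polar_comm])

variable (m F) in
/-- The pairs of an operator in the Clifford algebra and the isometry it induces. -/
def Cl : Subgroup ((Module.End F (SpMod m F))ˣ × Oplus m F) where
  carrier := {x | (∀ v, (x.1 : Module.End F (SpMod m F)) * phi v = phi (act x.2 v) * x.1) ∧
    ∀ z : Module.End F (SpMod m F), (∀ v, Commute z (phi v)) → Commute z x.1}
  one_mem' := ⟨fun v => by simp [act_one], fun z _ => Commute.one_right z⟩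
  mul_mem' {a b} ha hb := by
    refine ⟨fun v => ?_, fun z hz => (ha.2 z hz).mul_right (hb.2 z hz)⟩
    rw [Prod.fst_mul, Prod.snd_mul, Units.val_mul, mul_assoc, hb.1, ← mul_assoc, ha.1, act_mul, mul_assoc]
  inv_mem' {a} ha := by
    refine ⟨fun v => ?_, fun z hz => (ha.2 z hz).units_inv_right⟩
    have h := ha.1 (act a.2⁻¹ v)
    rw [act_cancel_inv] at h
    rw [Prod.fst_inv, Prod.snd_inv, Units.inv_mul_eq_iff_eq_mul, ← mul_assoc, h, mul_assoc, Units.mul_inv,
      mul_one]

/-- The projection to the isometries. -/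
noncomputable def clπ : Cl m F →* Oplus m F := (MonoidHom.snd _ _).comp (Cl m F).subtype

theorem clπ_ker : (clπ (m := m) (F := F)).ker ≤ Subgroup.center (Cl m F) := by
  rintro ⟨⟨a, g⟩, ha⟩ hg
  obtain rfl : g = 1 := hg
  refine Subgroup.mem_center_iff.2 fun b => Subtype.ext (Prod.ext (Units.ext ?_) (by simp))
  exact (b.2.2 _ fun v => by
    have := ha.1 v
    rw [act_one] at this
    exact this).symm.eq

theorem rootGroup_le_range : rootGroup (split m F) ≤ (clπ (m := m) (F := F)).range := by
  refine (Subgroup.closure_le _).2 ?_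
  rintro _ ⟨a, b, t, rfl⟩
  by_cases hb : b = Sum.swap a
  · rw [el_degenerate (Or.inr hb)]; exact one_mem _
  rw [(split m F).el_eq rfl hb]
  have hu : plusQ F m (bv a) = 0 := (split m F).Q_bv rfl
  have huw : B (bv a : Vec) (t • bv b) = 0 := by
    rw [QuadraticMap.polar_smul_right, (split m F).B_ne hb, smul_zero]
  refine ⟨⟨(rootUnit _ _ hu huw, eich _ _ hu huw), rootUnit_lifts hu huw, fun z hz => ?_⟩, rfl⟩
  exact (Commute.one_right z).sub_right ((hz _).mul_right (hz _))

theorem finite_SpMod : Module.Finite F (SpMod m F) :=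
  Module.Finite.of_basis (Pi.basisFun F (Fin m)).ExteriorAlgebra

theorem finite_Cl : Finite (Cl m F) := by
  have := finite_SpMod (m := m) (F := F)
  have : Finite (SpMod m F) := Module.finite_of_finite F
  have : Finite (Module.End F (SpMod m F)) := Finite.of_injective _ DFunLike.coe_injective
  infer_instance

/-- The sum of a hyperbolic pair. -/
noncomputable def hv (i : Fin m) : Fin m ⊕ Fin m → F :=
  bv (Sum.inl i) + (1 : F) • bv (Sum.swap (Sum.inl i))

theorem Q_hv (i : Fin m) : plusQ F m (hv i) = 1 := by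
  rw [plusQ_apply]
  simp [hv, Cfsg.quadFormPlus, bv, Pi.single_apply]

theorem B_hv {i j : Fin m} (h : i ≠ j) : B (hv i) (hv j : Vec) = 0 := by
  rw [plusQ_polar]
  simp [hv, bv, Pi.single_apply]
  refine Finset.sum_eq_zero fun x _ => ?_
  split_ifs with h1 h2 <;> simp_all

theorem reflect_hv (i : Fin m) : reflect (plusQ F m) (hv i) = CurtisTitsD.flip m F i := rfl

theorem phi_hv (i : Fin m) (v : Vec) :
    phi (hv i) * phi v = -(phi (act (CurtisTitsD.flip m F i) v) * phi (hv i)) := by
  rw [← reflect_hv, act_reflect, Q_hv, inv_one, one_mul, map_sub, map_smul]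
  exact alg_reflect (F := F) (R := Module.End F (SpMod m F)) (p := phi (hv i)) (v := phi v)
    (c := B (hv i) v) (by rw [phi_sq, Q_hv, one_smul]) (phi_anti _ _)

/-- The unit of an anisotropic vector. -/
noncomputable def hvUnit (i : Fin m) : (Module.End F (SpMod m F))ˣ where
  val := phi (hv i)
  inv := phi (hv i)
  val_inv := by rw [phi_sq, Q_hv, one_smul]
  inv_val := by rw [phi_sq, Q_hv, one_smul]

theorem pair_mem (i j : Fin m) :
    ((hvUnit i * hvUnit j, CurtisTitsD.flip m F i * CurtisTitsD.flip m F j) : (Module.End F (SpMod m F))ˣ × Oplus m F) ∈ Cl m F := by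
  refine ⟨fun v => ?_, fun z hz => (hz _).mul_right (hz _)⟩
  show phi (hv i) * phi (hv j) * phi v = phi (act (CurtisTitsD.flip m F i * CurtisTitsD.flip m F j) v) * (phi (hv i) * phi (hv j))
  rw [act_mul]
  exact alg_pair (phi_hv j v) (phi_hv i _)

theorem flip_conj {i j : Fin m} (h : i ≠ j) :
    lev m F (wS i j (1 : F)) * CurtisTitsD.flip m F i * (lev m F (wS i j (1 : F)))⁻¹ = CurtisTitsD.flip m F j := by
  have hm := wS_monomial h (one_ne_zero (α := F))
  have hi := wS_monomial h (neg_ne_zero.2 (one_ne_zero (α := F)))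
  have e1 : act (lev m F (wS i j (1 : F))) (bv (Sum.inl i)) = (-1 : F) • bv (Sum.inl j) := by
    funext z
    rw [lev_inl]
    rcases z with z | z
    · simp [hm.2, bv, Pi.single_apply, h]
    · simp [bv]
  have e2 : act (lev m F (wS i j (1 : F))) (bv (Sum.inr i)) = (-1 : F) • bv (Sum.inr j) := by
    funext z
    rw [lev_inr, wS_inv h]
    rcases z with z | z
    · simp [bv]
    · simp only [Sum.elim_inr, hi.2]
      by_cases hz : z = j
      · subst hz; simp [bv]
      · by_cases hz' : z = i
        · subst hz'; simp [bv, h]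
        · simp [bv, hz, Ne.symm hz', Equiv.swap_apply_of_ne_of_ne hz' hz]
  rw [← reflect_hv i, Spinor.reflect_conj, ← reflect_hv j]
  have e : act (lev m F (wS i j (1 : F))) (hv i) = -hv j := by
    simp only [hv, Sum.swap_inl, map_add, map_smul, e1, e2]
    module
  rw [e]
  refine act_ext fun x => ?_
  rw [act_reflect, act_reflect, QuadraticMap.map_neg, QuadraticMap.polar_neg_left, mul_neg, neg_smul,
    smul_neg, neg_neg]

theorem wS_mem_omega (h3 : 3 ≤ m) (A : SpecialLinearGroup (Fin m) F) :
    lev m F A ∈ commutator (Oplus m F) := by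
  have h : (lev m F).range ≤ commutator (Oplus m F) := by
    rw [MonoidHom.range_eq_map,
      ← Classical.Linear.commutator_SL_eq_top (n := Fin m) (F := F) (by simpa using h3), map_commutator_eq]
    exact Subgroup.commutator_mono le_top le_top
  exact h ⟨A, rfl⟩

theorem flip_pair_mem {i j : Fin m} (h : i ≠ j) :
    CurtisTitsD.flip m F i * CurtisTitsD.flip m F j ∈ commutator (Oplus m F) := by
  have e : CurtisTitsD.flip m F i * CurtisTitsD.flip m F j = ⁅CurtisTitsD.flip m F i, lev m F (wS i j (1 : F))⁆ := by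
    conv_lhs => rw [← flip_conj h]
    rw [commutatorElement_def, flip_inv]
    group
  rw [e, commutator_def]
  exact Subgroup.commutator_mem_commutator (Subgroup.mem_top _) (Subgroup.mem_top _)

/-- `Ω` is perfect. -/
theorem omega_perfect (h4 : 4 ≤ m) :
    ⁅commutator (Oplus m F), commutator (Oplus m F)⁆ = commutator (Oplus m F) := by
  have h3 : 3 ≤ m := by omega
  obtain ⟨d, hd⟩ : ∃ d : Fin m, d.val + 1 = m := ⟨⟨m - 1, by omega⟩, by simp only; omega⟩
  obtain ⟨c, hc⟩ : ∃ c : Fin m, c.val + 2 = m := ⟨⟨m - 2, by omega⟩, by simp only; omega⟩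
  have hcd : c ≠ d := fun e => by subst e; omega
  let P : Twin m F (Oplus m F) :=
    { F1 := lev m F, F2 := lev2 d, d := d, c := c, hcd := hcd
      top := fun i j hi hj t => by
        by_cases hij : i = j
        · simp [T, hij]
        · exact (flip_commute_lev hij hi hj t).symm
      mid := fun t u => lev_commute hcd t u }
  have e := map_range_eq_omega (P := P) (p := MonoidHom.id _) (fun _ => rfl) (fun _ => rfl) h3
  rw [Subgroup.map_id] at e
  have hperf : commutator (SpecialLinearGroup (Fin m) F) = ⊤ :=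
    Classical.Linear.commutator_SL_eq_top (n := Fin m) (F := F) (by simpa using h3)
  have hr : ∀ f : SpecialLinearGroup (Fin m) F →* Oplus m F, ⁅f.range, f.range⁆ = f.range := fun f => by
    rw [MonoidHom.range_eq_map, ← Subgroup.map_commutator, ← commutator_def, hperf]
  refine le_antisymm (Subgroup.commutator_le_left _ _) ?_
  conv_lhs => rw [← e]
  refine sup_le ?_ ?_
  · rw [← hr P.F1]; exact Subgroup.commutator_mono (le_sup_left.trans e.le) (le_sup_left.trans e.le)
  · rw [← hr P.F2]; exact Subgroup.commutator_mono (le_sup_right.trans e.le) (le_sup_right.trans e.le)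

/-- A perfect central extension with non-trivial kernel, in odd characteristic. -/
theorem exists_double_cover_flips (h4 : 4 ≤ m) (h2 : (2 : F) ≠ 0) :
    ∃ (E : Type u) (_ : Group E) (_ : Finite E) (π : E →* Oplus m F),
      commutator E = ⊤ ∧ π.ker ≤ Subgroup.center E ∧ π.range = commutator (Oplus m F) ∧
        ∀ i j k : Fin m, i ≠ j → j ≠ k → i ≠ k → ∀ x y : E,
          π x = CurtisTitsD.flip m F i * CurtisTitsD.flip m F j →
          π y = CurtisTitsD.flip m F j * CurtisTitsD.flip m F k → ⁅x, y⁆ ≠ 1 := by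
  have h3 : 3 ≤ m := by omega
  have := finite_Cl (m := m) (F := F)
  obtain ⟨H, hH⟩ : ∃ H, H = (commutator (Oplus m F)).comap (clπ (m := m) (F := F)) := ⟨_, rfl⟩
  have hmap : H.map clπ = commutator (Oplus m F) := by
    rw [hH, Subgroup.map_comap_eq]
    exact inf_eq_right.2 ((commutator_le_rootGroup h3).trans rootGroup_le_range)
  obtain ⟨D, hD⟩ : ∃ D, D = ⁅H, H⁆ := ⟨_, rfl⟩
  have hDm : D.map clπ = commutator (Oplus m F) := by
    rw [hD, Subgroup.map_commutator, hmap, omega_perfect h4]
  have hperf : commutator D = ⊤ := by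
    refine Subgroup.map_injective D.subtype_injective ?_
    rw [commutator_def, Subgroup.map_commutator, ← MonoidHom.range_eq_map, Subgroup.range_subtype]
    conv_rhs => rw [hD]
    refine le_antisymm (Subgroup.commutator_mono (hD ▸ Subgroup.commutator_le_self H) (hD ▸ Subgroup.commutator_le_self H))
      (Subgroup.commutator_le.2 fun a ha b hb => ?_)
    obtain ⟨a', ha', ea⟩ := hDm.ge (hmap ▸ Subgroup.mem_map_of_mem clπ ha)
    obtain ⟨b', hb', eb⟩ := hDm.ge (hmap ▸ Subgroup.mem_map_of_mem clπ hb)
    rw [Lift.comm_congr (Lift.div_mem_center clπ_ker ea.symm) (Lift.div_mem_center clπ_ker eb.symm)]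
    exact Subgroup.commutator_mem_commutator ha' hb'
  refine ⟨D, inferInstance, inferInstance, clπ.comp D.subtype, hperf, fun x hx => ?_, ?_, ?_⟩
  · exact Subgroup.mem_center_iff.2 fun y => Subtype.ext (Subgroup.mem_center_iff.1 (clπ_ker (x := x.1) hx) y.1)
  · rw [MonoidHom.range_comp, Subgroup.range_subtype, hDm]
  intro i j k hij hjk hik x y ex ey h
  let a : Cl m F := ⟨_, pair_mem i j⟩
  let b : Cl m F := ⟨_, pair_mem j k⟩
  have h0 : ⁅a, b⁆ = 1 := by
    rw [Lift.comm_congr (Lift.div_mem_center clπ_ker (show clπ a = clπ x.1 from ex.symm))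
      (Lift.div_mem_center clπ_ker (show clπ b = clπ y.1 from ey.symm))]
    exact congrArg Subtype.val h
  have h' : a * b = b * a := commutatorElement_eq_one_iff_mul_comm.1 h0
  have e : phi (hv i : Fin m ⊕ Fin m → F) * phi (hv j) * (phi (hv j) * phi (hv k)) =
      phi (hv j) * phi (hv k) * (phi (hv i) * phi (hv j)) :=
    congrArg (fun x : Cl m F => ((x.1.1 : (Module.End F (SpMod m F))ˣ) : Module.End F (SpMod m F))) h'
  have anti : ∀ {a b : Fin m}, a ≠ b →
      phi (hv a : Fin m ⊕ Fin m → F) * phi (hv b) + phi (hv b) * phi (hv a) = 0 := fun hab => by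
    rw [phi_anti, B_hv hab, zero_smul]
  have sq : ∀ a : Fin m, phi (hv a : Fin m ⊕ Fin m → F) * phi (hv a) = 1 := fun a => by
    rw [phi_sq, Q_hv, one_smul]
  exact alg_noncomm h2 (sq i) (sq j) (sq k) (anti hij) (anti hjk) (anti hik) e


/-- A perfect central extension with non-trivial kernel, in odd characteristic. -/
theorem exists_double_cover (h4 : 4 ≤ m) (h2 : (2 : F) ≠ 0) :
    ∃ (E : Type u) (_ : Group E) (_ : Finite E) (π : E →* Oplus m F),
      commutator E = ⊤ ∧ π.ker ≤ Subgroup.center E ∧ π.range = commutator (Oplus m F) ∧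
        ∃ z, π z = 1 ∧ z ≠ 1 := by
  obtain ⟨E, iE, iF, π, a, b, c, hne⟩ := exists_double_cover_flips (F := F) h4 h2
  obtain ⟨i, hi⟩ : ∃ i : Fin m, i.val = 0 := ⟨⟨0, by omega⟩, rfl⟩
  obtain ⟨j, hj⟩ : ∃ j : Fin m, j.val = 1 := ⟨⟨1, by omega⟩, rfl⟩
  obtain ⟨k, hk⟩ : ∃ k : Fin m, k.val = 2 := ⟨⟨2, by omega⟩, rfl⟩
  have hij : i ≠ j := fun e => by subst e; omega
  have hjk : j ≠ k := fun e => by subst e; omega
  have hik : i ≠ k := fun e => by subst e; omega
  obtain ⟨x, hx⟩ : CurtisTitsD.flip m F i * CurtisTitsD.flip m F j ∈ π.range := c ▸ flip_pair_mem hij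
  obtain ⟨y, hy⟩ : CurtisTitsD.flip m F j * CurtisTitsD.flip m F k ∈ π.range := c ▸ flip_pair_mem hjk
  refine ⟨E, iE, iF, π, a, b, c, ⁅x, y⁆, ?_, hne i j k hij hjk hik x y hx hy⟩
  rw [map_commutatorElement, hx, hy, commutatorElement_eq_one_iff_mul_comm]
  have c1 := flip_comm (F := F) hik.symm
  have c2 := flip_comm (F := F) hij
  rw [show (CurtisTitsD.flip m F j * CurtisTitsD.flip m F k) * (CurtisTitsD.flip m F i * CurtisTitsD.flip m F j) =
      CurtisTitsD.flip m F j * (CurtisTitsD.flip m F k * CurtisTitsD.flip m F i) * CurtisTitsD.flip m F j by group, c1,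
    show CurtisTitsD.flip m F j * (CurtisTitsD.flip m F i * CurtisTitsD.flip m F k) * CurtisTitsD.flip m F j =
      (CurtisTitsD.flip m F j * CurtisTitsD.flip m F i) * (CurtisTitsD.flip m F k * CurtisTitsD.flip m F j) by group, ← c2, flip_comm hjk.symm]

end Cfsg.Agent.PlusMult
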