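import Cfsg.Agent.Lib.PlusMult.Kernel
import Cfsg.Agent.Lib.PlusMult.Spinor
import Cfsg.Prelude.Def_KGroupFacts

/-!
The Schur multiplier of `PΩ⁺(2m, q)`.
-/

set_option autoImplicit false
set_option linter.unusedSectionVars false

open scoped commutatorElement

namespace Cfsg.Agent.PlusMult

open Cfsg.Agent.CurtisTitsD
  Cfsg.Agent.Forms Cfsg.Agent.Forms.Reflections Cfsg.Agent.Forms.PlusStd
  Cfsg.Agent.Classical.Orth Cfsg.Agent.Chevalley.Natural

universe u v w

section Generic

variable {G : Type u} [Group G] {Q : Type v} [Group Q]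

/-- In a perfect group an element central modulo a central subgroup is central. -/
theorem mem_center_of_perfect (hperf : commutator G = ⊤) {π : G →* Q} (hc : π.ker ≤ Subgroup.center G)
    {x : G} (hx : ∀ y, π x * π y = π y * π x) : x ∈ Subgroup.center G := by
  have hle : commutator G ≤ Subgroup.centralizer {x} := by
    rw [commutator_def, Subgroup.commutator_le]
    intro a _ b _
    refine Subgroup.mem_centralizer_singleton_iff.2 ?_
    have hd : ∀ g, π (x * g * x⁻¹) = π g := fun g => by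
      rw [map_mul, map_mul, map_inv, hx, mul_inv_cancel_right]
    have e : x * ⁅a, b⁆ * x⁻¹ = ⁅x * a * x⁻¹, x * b * x⁻¹⁆ := by
      simp only [commutatorElement_def]; group
    rw [Lift.comm_congr (Lift.div_mem_center hc (hd a)) (Lift.div_mem_center hc (hd b))] at e
    exact (mul_inv_eq_iff_eq_mul.1 e).symm
  rw [hperf] at hle
  exact Subgroup.mem_center_iff.2 fun y => Subgroup.mem_centralizer_singleton_iff.1 (hle (Subgroup.mem_top y))

/-- The source of a stem extension of a perfect group is perfect. -/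
theorem stem_perfect {Δ : Type w} [Group Δ] (hG : commutator G = ⊤) {τ : Δ →* G}
    (hτ : Cfsg.IsStemExtension τ) : commutator Δ = ⊤ := by
  have h : (commutator Δ).map τ = ⊤ := by
    rw [commutator_def, Subgroup.map_commutator, Subgroup.map_top_of_surjective τ hτ.1, ← commutator_def, hG]
  refine eq_top_iff.2 fun x _ => ?_
  obtain ⟨y, hy, e⟩ := h.ge (Subgroup.mem_top (τ x))
  have : y⁻¹ * x ∈ commutator Δ :=
    hτ.2.2 (by rw [MonoidHom.mem_ker, map_mul, map_inv, e, inv_mul_cancel])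
  have := mul_mem hy this
  rwa [mul_inv_cancel_left] at this

/-- A cover with the largest kernel over a covered group gives the multiplier. -/
theorem hasSchurMultiplier_of_max {O : Subgroup Q} {E : Type u} [Group E] [Finite E]
    (π : E →* Q) (hperf : commutator E = ⊤) (hc : π.ker ≤ Subgroup.center E) (hr : π.range = O)
    (hmax : ∀ (D : Type u) [Group D] [Finite D] (π' : D →* Q), commutator D = ⊤ →
      π'.ker ≤ Subgroup.center D → π'.range = O → Nat.card π'.ker ≤ Nat.card π.ker)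
    (p : O →* G) (hp : Function.Surjective p) (hpc : p.ker ≤ Subgroup.center O)
    {A : Type w} [CommGroup A] (f : (p.comp (π.codRestrict O fun x => hr ▸ ⟨x, rfl⟩)).ker ≃* A) :
    Cfsg.HasSchurMultiplier G A := by
  obtain ⟨π₀, hπ₀⟩ : ∃ π₀, π₀ = π.codRestrict O fun x => hr ▸ ⟨x, rfl⟩ := ⟨_, rfl⟩
  obtain ⟨σ, hσ⟩ : ∃ σ, σ = p.comp π₀ := ⟨_, rfl⟩
  have hπ₀s : Function.Surjective π₀ := fun y => by
    obtain ⟨x, hx⟩ := hr.ge y.2
    exact ⟨x, Subtype.ext (by rw [hπ₀]; exact hx)⟩
  have hs : Function.Surjective σ := hσ ▸ hp.comp hπ₀s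
  have hcen : σ.ker ≤ Subgroup.center E := fun x hx => by
    refine mem_center_of_perfect hperf hc fun y => ?_
    have h : π₀ x ∈ Subgroup.center O := hpc (by rw [hσ] at hx; exact hx)
    have := congrArg Subtype.val (Subgroup.mem_center_iff.1 h (π₀ y))
    rw [hπ₀] at this
    exact this.symm
  have hstem : Cfsg.IsStemExtension σ := ⟨hs, hcen, hperf ▸ le_top⟩
  refine ⟨⟨E, inferInstance, inferInstance, σ, hstem, ⟨(MulEquiv.subgroupCongr (by rw [hσ, hπ₀])).trans f⟩⟩, ?_⟩
  intro Δ _ _ τ hτ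
  have hG : commutator G = ⊤ := by
    rw [eq_top_iff, ← Subgroup.map_top_of_surjective σ hs, ← hperf, commutator_def, Subgroup.map_commutator]
    exact Subgroup.commutator_mono le_top le_top
  have hΔ := stem_perfect hG hτ
  obtain ⟨P, hP⟩ : ∃ P : Subgroup (E × Δ), P = (σ.comp (MonoidHom.fst E Δ)).eqLocus (τ.comp (MonoidHom.snd E Δ)) :=
    ⟨_, rfl⟩
  have hmem : ∀ x, x ∈ P ↔ σ x.1 = τ x.2 := fun x => by rw [hP]; rfl
  obtain ⟨D, hD⟩ : ∃ D, D = ⁅P, P⁆ := ⟨_, rfl⟩
  have hDP : D ≤ P := hD ▸ Subgroup.commutator_le_self P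
  have m1 : D.map (MonoidHom.fst E Δ) = ⊤ := by
    rw [hD, Subgroup.map_commutator, show P.map (MonoidHom.fst E Δ) = ⊤ from eq_top_iff.2 fun a _ => by
      obtain ⟨b, hb⟩ := hτ.1 (σ a); exact ⟨(a, b), (hmem _).2 hb.symm, rfl⟩]
    exact hperf
  have m2 : D.map (MonoidHom.snd E Δ) = ⊤ := by
    rw [hD, Subgroup.map_commutator, show P.map (MonoidHom.snd E Δ) = ⊤ from eq_top_iff.2 fun b _ => by
      obtain ⟨a, ha⟩ := hs (τ b); exact ⟨(a, b), (hmem _).2 ha, rfl⟩]
    exact hΔ
  have hcenP : ∀ x ∈ P, σ x.1 = 1 → ∀ y : E × Δ, Commute x y := fun x hx h1 y => by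
    refine Prod.ext ?_ ?_
    · exact (Subgroup.mem_center_iff.1 (hcen h1) y.1).symm
    · exact (Subgroup.mem_center_iff.1 (hτ.2.1 (MonoidHom.mem_ker.2 (((hmem x).1 hx).symm.trans h1))) y.2).symm
  have hperfD : commutator D = ⊤ := by
    refine Subgroup.map_injective D.subtype_injective ?_
    rw [commutator_def, Subgroup.map_commutator, ← MonoidHom.range_eq_map, Subgroup.range_subtype]
    conv_rhs => rw [hD]
    refine le_antisymm (Subgroup.commutator_mono hDP hDP) (Subgroup.commutator_le.2 fun a ha b hb => ?_)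
    have key : ∀ a ∈ P, ∃ a' ∈ D, ∀ y, Commute (a'⁻¹ * a) y := fun a ha => by
      obtain ⟨a', ha', e⟩ := m1.ge (Subgroup.mem_top a.1)
      refine ⟨a', ha', hcenP _ (mul_mem (inv_mem (hDP ha')) ha) ?_⟩
      simp only [MonoidHom.coe_fst] at e
      simp [e]
    obtain ⟨a', ha', hca⟩ := key a ha
    obtain ⟨b', hb', hcb⟩ := key b hb
    rw [Lift.comm_congr (Subgroup.mem_center_iff.2 fun y => (hca y).symm.eq)
      (Subgroup.mem_center_iff.2 fun y => (hcb y).symm.eq)]
    exact Subgroup.commutator_mem_commutator ha' hb'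
  let f1 : D →* E := (MonoidHom.fst E Δ).comp D.subtype
  have hf1 : Function.Surjective f1 := fun a => by
    obtain ⟨x, hx, rfl⟩ := m1.ge (Subgroup.mem_top a)
    exact ⟨⟨x, hx⟩, rfl⟩
  have hkc : (π.comp f1).ker ≤ Subgroup.center D := fun x hx => Subgroup.mem_center_iff.2 fun y => by
    have h1 : σ x.1.1 = 1 := by
      rw [hσ, MonoidHom.comp_apply, show π₀ x.1.1 = 1 from Subtype.ext (by rw [hπ₀]; exact hx), map_one]
    exact Subtype.ext (hcenP x.1 (hDP x.2) h1 y.1).symm.eq
  have hrD : (π.comp f1).range = O := by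
    rw [MonoidHom.range_comp, MonoidHom.range_eq_top.2 hf1, ← MonoidHom.range_eq_map, hr]
  have hle := hmax D (π.comp f1) hperfD hkc hrD
  have hcard : Nat.card D ≤ Nat.card E := by
    have a := Subgroup.card_mul_index (π.comp f1).ker
    have b := Subgroup.card_mul_index π.ker
    rw [Subgroup.index_ker, hrD] at a
    rw [Subgroup.index_ker, hr] at b
    rw [← a, ← b]
    exact Nat.mul_le_mul_right _ hle
  have hbij : Function.Bijective f1 :=
    (Nat.bijective_iff_surjective_and_card f1).2 ⟨hf1, le_antisymm hcard (Nat.card_le_card_of_surjective f1 hf1)⟩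
  let ψ : E →* Δ := ((MonoidHom.snd E Δ).comp D.subtype).comp (MulEquiv.ofBijective f1 hbij).symm.toMonoidHom
  have hψ : ∀ x, τ (ψ x) = σ x := fun x => by
    have h := (hmem _).1 (hDP ((MulEquiv.ofBijective f1 hbij).symm x).2)
    exact h.symm.trans (congrArg σ ((MulEquiv.ofBijective f1 hbij).apply_symm_apply x))
  have hψs : Function.Surjective ψ := fun b => by
    obtain ⟨x, hx, rfl⟩ := m2.ge (Subgroup.mem_top b)
    refine ⟨f1 ⟨x, hx⟩, ?_⟩
    show MonoidHom.snd E Δ (((MulEquiv.ofBijective f1 hbij).symm (f1 ⟨x, hx⟩)) : E × Δ) = _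
    rw [show (MulEquiv.ofBijective f1 hbij).symm (f1 ⟨x, hx⟩) = ⟨x, hx⟩ from
      (MulEquiv.ofBijective f1 hbij).symm_apply_apply _]
  let ρ : (p.comp (π.codRestrict O fun x => hr ▸ ⟨x, rfl⟩)).ker →* τ.ker :=
    (ψ.comp (Subgroup.subtype _)).codRestrict τ.ker fun x =>
      MonoidHom.mem_ker.2 (by
        rw [MonoidHom.comp_apply, hψ, hσ, hπ₀]
        exact x.2)
  refine ⟨ρ.comp f.symm.toMonoidHom, ?_⟩
  have hρ : Function.Surjective ρ := fun ⟨b, hb⟩ => by
    obtain ⟨x, rfl⟩ := hψs b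
    exact ⟨⟨x, by rw [← hπ₀, ← hσ, MonoidHom.mem_ker, ← hψ]; exact hb⟩, rfl⟩
  exact hρ.comp f.symm.surjective

end Generic

variable {m : ℕ} {F : Type u} [Field F] [Finite F]

theorem omega_top (h4 : 4 ≤ m) : commutator (commutator (Oplus m F)) = ⊤ := by
  refine Subgroup.map_injective (commutator (Oplus m F)).subtype_injective ?_
  rw [commutator_def (commutator (Oplus m F)), Subgroup.map_commutator, ← MonoidHom.range_eq_map,
    Subgroup.range_subtype, omega_perfect h4]

theorem card_ker_le (h4 : 4 ≤ m) (hexc : ¬ (m = 4 ∧ Nat.card F = 2)) (D : Type v) [Group D] [Finite D]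
    (π : D →* Oplus m F) (hperf : commutator D = ⊤) (hc : π.ker ≤ Subgroup.center D)
    (hr : π.range = commutator (Oplus m F)) :
    Nat.card π.ker ≤ 2 ∧ ((2 : F) = 0 → Nat.card π.ker ≤ 1) := by
  obtain ⟨z, -, h2, hall, -, -⟩ := kernel_facts ⟨by omega, Or.inl ⟨h4, hexc⟩, hc, hr⟩ hperf
  have hsub : (π.ker : Set D) ⊆ {1, z} := fun x hx => hall x hx
  have hcard : Nat.card π.ker ≤ ({1, z} : Set D).ncard := by
    rw [← Nat.card_coe_set_eq]
    exact Nat.card_mono (Set.toFinite _) hsub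
  refine ⟨hcard.trans ?_, fun h => hcard.trans ?_⟩
  · exact (Set.ncard_insert_le _ _).trans (by rw [Set.ncard_singleton])
  · rw [h2 h, Set.pair_eq_singleton, Set.ncard_singleton]

theorem card_ker_le' (h3 : 3 ≤ m) (h2 : (2 : F) ≠ 0) (h5 : m = 3 → 5 ≤ Nat.card F) (D : Type v) [Group D]
    [Finite D] (π : D →* Oplus m F) (hperf : commutator D = ⊤) (hc : π.ker ≤ Subgroup.center D)
    (hr : π.range = commutator (Oplus m F)) : Nat.card π.ker ≤ 2 := by
  have := Fintype.ofFinite F
  have hodd : Nat.card F % 2 = 1 := by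
    rw [Nat.card_eq_fintype_card]
    exact FiniteField.odd_card_of_char_ne_two fun h => h2 (by
      have : CharP F 2 := ringChar.of_eq h
      exact CharTwo.two_eq_zero)
  have hexc : (4 ≤ m ∧ ¬ (m = 4 ∧ Nat.card F = 2)) ∨ (Nat.card F ≠ 4 ∧ ∃ a : F, a ≠ 0 ∧ a * a ≠ 1) ∨
      (Nat.card F = 3 ∧ ∀ x, π x = 1 → ∃ n, x ^ 2 ^ n = 1) := by
    rcases Nat.lt_or_ge m 4 with h | h
    · refine Or.inr (Or.inl ⟨by omega, ?_⟩)
      classical
      by_contra hall
      push Not at hall
      have hsub : (Finset.univ : Finset F) ⊆ {0, 1, -1} := fun x _ => by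
        by_cases hx : x = 0
        · simp [hx]
        · rcases mul_self_eq_one_iff.1 (hall x hx) with e | e <;> simp [e]
      have := (Finset.card_le_card hsub).trans Finset.card_le_three
      rw [Finset.card_univ, ← Nat.card_eq_fintype_card] at this
      have := h5 (by omega)
      omega
    · exact Or.inl ⟨h, fun e => by omega⟩
  obtain ⟨z, -, -, hall, -, -⟩ := kernel_facts ⟨h3, hexc, hc, hr⟩ hperf
  have hsub : (π.ker : Set D) ⊆ {1, z} := fun x hx => hall x hx
  calc Nat.card π.ker ≤ ({1, z} : Set D).ncard := by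
        rw [← Nat.card_coe_set_eq]
        exact Nat.card_mono (Set.toFinite _) hsub
    _ ≤ 2 := (Set.ncard_insert_le _ _).trans (by rw [Set.ncard_singleton])

/-- The bound over three elements in rank three, for kernels of two-power order. -/
theorem card_ker_le_three (h3 : 3 ≤ m) (hF : Nat.card F = 3) (D : Type v) [Group D] [Finite D]
    (π : D →* Oplus m F) (hperf : commutator D = ⊤) (hc : π.ker ≤ Subgroup.center D)
    (hr : π.range = commutator (Oplus m F)) (hk : ∀ x, π x = 1 → ∃ n, x ^ 2 ^ n = 1) :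
    Nat.card π.ker ≤ 2 := by
  have := Fintype.ofFinite F
  obtain ⟨z, -, -, hall, -, -⟩ := kernel_facts ⟨h3, Or.inr (Or.inr ⟨hF, hk⟩), hc, hr⟩ hperf
  have hsub : (π.ker : Set D) ⊆ {1, z} := fun x hx => hall x hx
  calc Nat.card π.ker ≤ ({1, z} : Set D).ncard := by
        rw [← Nat.card_coe_set_eq]
        exact Nat.card_mono (Set.toFinite _) hsub
    _ ≤ 2 := (Set.ncard_insert_le _ _).trans (by rw [Set.ncard_singleton])

/-- What the multiplier is computed from. -/
theorem multiplier_of (h4 : 4 ≤ m) (hexc : ¬ (m = 4 ∧ Nat.card F = 2)) {A : Type w} [CommGroup A]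
    (h : ∀ (E : Type u) [Group E] [Finite E] (π : E →* Oplus m F) (K : Subgroup E),
      commutator E = ⊤ → Over π → ((2 : F) ≠ 0 → π.ker ≠ ⊥) →
      (∀ x, x ∈ K ↔ π x = 1 ∨ IsNeg (π x)) → Nonempty (K ≃* A)) :
    Cfsg.HasSchurMultiplier (Cfsg.POmega F (Cfsg.quadFormPlus m F)) A := by
  have := Fintype.ofFinite F
  classical
  rw [← Classical.OrthForms.plusQ_eq]
  obtain ⟨E, iE, iF, π, hperf, hc, hr, hne⟩ : ∃ (E : Type u) (_ : Group E) (_ : Finite E) (π : E →* Oplus m F),
      commutator E = ⊤ ∧ π.ker ≤ Subgroup.center E ∧ π.range = commutator (Oplus m F) ∧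
        ((2 : F) ≠ 0 → π.ker ≠ ⊥) := by
    by_cases h2 : (2 : F) = 0
    · refine ⟨commutator (Oplus m F), inferInstance, inferInstance, (commutator (Oplus m F)).subtype,
        omega_top h4, ?_, Subgroup.range_subtype _, fun h => absurd h2 h⟩
      rw [Subgroup.ker_subtype]; exact bot_le
    · obtain ⟨E, iE, iF, π, a, b, c, z, hz, hz1⟩ := exists_double_cover (m := m) h4 h2
      exact ⟨E, iE, iF, π, a, b, c, fun _ e => hz1 (Subgroup.mem_bot.1 (e ▸ hz))⟩
  have hπ : Over π := ⟨by omega, Or.inl ⟨h4, hexc⟩, hc, hr⟩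
  let O : Subgroup (Oplus m F) := commutator (Oplus m F)
  have hr' : π.range = O := hr
  let p : O →* Cfsg.POmega F ⇑(plusQ F m) := QuotientGroup.mk' (Subgroup.center O)
  have hmem : ∀ x, x ∈ (p.comp (π.codRestrict O fun x => hr' ▸ ⟨x, rfl⟩)).ker ↔ π x = 1 ∨ IsNeg (π x) := by
    intro x
    rw [MonoidHom.mem_ker, MonoidHom.comp_apply]
    show (QuotientGroup.mk (π.codRestrict O _ x) : O ⧸ Subgroup.center O) = 1 ↔ _
    rw [QuotientGroup.eq_one_iff, mem_center_iff (plusQ_nondeg F m)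
      (Classical.OrthForms.plusFrame F (show 3 ≤ m by omega)) (by simp; omega)]
    constructor
    · rintro ⟨l, hl, hx⟩
      rcases mul_self_eq_one_iff.1 hl with rfl | rfl
      · exact Or.inl (act_ext fun y => by rw [act_one]; exact (hx y).trans (one_smul F y))
      · exact Or.inr fun k => hx _
    · rintro (h | h)
      · exact ⟨1, one_mul 1, fun y => by
          show act (π x) y = _
          rw [h, act_one, one_smul]⟩
      · exact ⟨-1, by ring, h.apply⟩
  obtain ⟨f⟩ := h E π _ hperf hπ hne hmem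
  refine hasSchurMultiplier_of_max (O := O) π hperf hc hr' (fun D _ _ π' a b c => ?_) p
    (QuotientGroup.mk'_surjective _) (QuotientGroup.ker_mk' _).le f
  obtain ⟨u1, u2⟩ := card_ker_le h4 hexc D π' a b c
  by_cases h2 : (2 : F) = 0
  · exact (u2 h2).trans Nat.card_pos
  · refine u1.trans ?_
    rcases Nat.lt_or_ge 1 (Nat.card π.ker) with h | h
    · exact h
    · exact absurd ((Subgroup.eq_bot_of_card_le _ h)) (hne h2)

variable {E : Type u} [Group E] [Finite E] {π : E →* Oplus m F}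

theorem neg_ne_one (hπ : Over π) (h2 : (2 : F) ≠ 0) {g : Oplus m F} (h : IsNeg g) : g ≠ 1 := fun e => by
  obtain ⟨i, -⟩ : ∃ i : Fin m, i.val = 0 := ⟨⟨0, by have := hπ.big; omega⟩, rfl⟩
  have := congrFun (h (Sum.inl i)) (Sum.inl i)
  rw [e, act_one] at this
  simp only [Pi.smul_apply, bv, Pi.single_eq_same, smul_eq_mul, mul_one] at this
  exact h2 (by linear_combination this)

theorem eq_bot_of_two (hπ : Over π) (hperf : commutator E = ⊤) (h2 : (2 : F) = 0) {K : Subgroup E}
    (hK : ∀ x, x ∈ K ↔ π x = 1 ∨ IsNeg (π x)) : K = ⊥ := by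
  obtain ⟨z, -, hz, hall, -, -⟩ := kernel_facts hπ hperf
  refine eq_bot_iff.2 fun x hx => ?_
  have h1 : π x = 1 := by
    rcases (hK x).1 hx with h | h
    · exact h
    refine act_ext fun y => ?_
    rw [h.apply, act_one, show (-1 : F) = 1 by linear_combination (-1 : F) * h2, one_smul]
  rcases hall x h1 with e | e
  · exact e
  · rw [e, hz h2]; exact one_mem _

/-- The kernel over the group modulo its centre, in odd characteristic. -/
theorem kernel_odd (hπ : Over π) (hperf : commutator E = ⊤) (h2 : (2 : F) ≠ 0) (hne : π.ker ≠ ⊥)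
    {K : Subgroup E} (hK : ∀ x, x ∈ K ↔ π x = 1 ∨ IsNeg (π x)) :
    ((Odd m ∧ ¬ IsSquare (-1 : F)) → IsCyclic K ∧ Nat.card K = 2) ∧
      ((Odd m ∧ IsSquare (-1 : F)) → IsCyclic K ∧ Nat.card K = 4) ∧
      (Even m → IsKleinFour K) := by
  obtain ⟨z, hz, -, hall, hneg, hex⟩ := kernel_facts hπ hperf
  have hz1 : z ≠ 1 := fun e => hne (eq_bot_iff.2 fun x hx => Subgroup.mem_bot.2 (by
    rcases hall x hx with h | h
    · exact h
    · exact h.trans e))
  have hzz : z * z = 1 := by
    rcases hall (z * z) (by rw [map_mul, hz, mul_one]) with h | h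
    · exact h
    · exact absurd (mul_eq_left.1 h) hz1
  have hcoset : ∀ x0, IsNeg (π x0) → ∀ x, x ∈ K ↔ x = 1 ∨ x = z ∨ x = x0 ∨ x = x0 * z := by
    intro x0 h0 x
    rw [hK]
    constructor
    · rintro (h | h)
      · rcases hall x h with e | e
        · exact Or.inl e
        · exact Or.inr (Or.inl e)
      · have e1 : π (x0⁻¹ * x) = 1 := by rw [map_mul, map_inv, IsNeg.unique h h0, inv_mul_cancel]
        rcases hall _ e1 with e | e
        · exact Or.inr (Or.inr (Or.inl (inv_mul_eq_one.1 e).symm))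
        · exact Or.inr (Or.inr (Or.inr (eq_mul_of_inv_mul_eq e)))
    · rintro (rfl | rfl | rfl | rfl)
      · exact Or.inl (map_one _)
      · exact Or.inl hz
      · exact Or.inr h0
      · exact Or.inr (by rw [map_mul, hz, mul_one]; exact h0)
  have hset : ∀ x0, IsNeg (π x0) → Nat.card K = 4 := by
    intro x0 h0
    have e : (K : Set E) = {1, z, x0, x0 * z} := Set.ext fun x => by simpa using hcoset x0 h0 x
    have hne1 := neg_ne_one hπ h2 h0
    have a1 : (1 : E) ≠ x0 := fun e => hne1 (by rw [← e, map_one])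
    have a2 : (1 : E) ≠ x0 * z := fun e => hne1 (by
      have := congrArg π e; rw [map_one, map_mul, hz, mul_one] at this; exact this.symm)
    have a3 : z ≠ x0 := fun e => hne1 (by rw [← e, hz])
    have a4 : z ≠ x0 * z := fun e => a1 (right_eq_mul.1 e).symm
    have a5 : x0 ≠ x0 * z := fun e => hz1 (left_eq_mul.1 e)
    rw [← SetLike.coe_sort_coe, Nat.card_coe_set_eq, e, Set.ncard_insert_of_notMem (by simp [hz1.symm, a1, a2]),
      Set.ncard_insert_of_notMem (by simp [a3, a4]), Set.ncard_pair a5]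
  refine ⟨fun ⟨hm, hs⟩ => ?_, fun ⟨hm, hs⟩ => ?_, fun hm => ?_⟩
  · have e : (K : Set E) = {1, z} := Set.ext fun x => by
      simp only [SetLike.mem_coe, hK, Set.mem_insert_iff, Set.mem_singleton_iff]
      refine ⟨fun h => ?_, fun h => ?_⟩
      · rcases h with h | h
        · exact hall x h
        obtain ⟨a, ha, -⟩ := hneg x h
        exact absurd ⟨(a : F), by simpa [hm.neg_one_pow] using (congrArg Units.val ha).symm⟩ hs
      · rcases h with rfl | rfl
        exacts [Or.inl (map_one _), Or.inl hz]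
    have hc : Nat.card K = 2 := by
      rw [← SetLike.coe_sort_coe, Nat.card_coe_set_eq, e, Set.ncard_pair hz1.symm]
    have : Fact (Nat.Prime 2) := ⟨Nat.prime_two⟩
    exact ⟨isCyclic_of_prime_card hc, hc⟩
  · obtain ⟨b, hb⟩ := hs
    have hb0 : b ≠ 0 := fun e => by rw [e, mul_zero, neg_eq_zero] at hb; exact one_ne_zero hb
    obtain ⟨x0, h0⟩ := hex (Units.mk0 b hb0) (Units.ext (by simpa [hm.neg_one_pow] using hb.symm))
    obtain ⟨-, -, -, hsq⟩ := hneg x0 h0
    have hord : orderOf x0 = 2 ^ (1 + 1) := by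
      have : Fact (Nat.Prime 2) := ⟨Nat.prime_two⟩
      refine orderOf_eq_prime_pow ?_ ?_
      · rw [pow_one, sq, hsq hm]; exact hz1
      · rw [show 2 ^ (1 + 1) = 2 + 2 by norm_num, pow_add, sq, hsq hm, hzz]
    have hK' : Subgroup.zpowers x0 = K :=
      Subgroup.eq_of_le_of_card_ge (Subgroup.zpowers_le.2 ((hK x0).2 (Or.inr h0)))
        (by rw [hset x0 h0, Nat.card_zpowers, hord]; norm_num)
    exact ⟨hK' ▸ inferInstance, hset x0 h0⟩
  · obtain ⟨x0, h0⟩ := hex 1 (by rw [one_mul, hm.neg_one_pow])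
    have hsq : ∀ x ∈ K, x * x = 1 := fun x hx => by
      rcases (hK x).1 hx with h | h
      · rcases hall x h with rfl | rfl
        exacts [one_mul 1, hzz]
      · obtain ⟨a, -, he, -⟩ := hneg x h
        exact he hm
    refine ⟨hset x0 h0, ?_⟩
    have hdvd : Monoid.exponent K ∣ 2 :=
      Monoid.exponent_dvd_of_forall_pow_eq_one fun x => Subtype.ext (by
        rw [SubmonoidClass.coe_pow, sq, OneMemClass.coe_one]; exact hsq x x.2)
    rcases (Nat.dvd_prime Nat.prime_two).1 hdvd with h | h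
    · have hs := (Monoid.exp_eq_one_iff (G := K)).1 h
      exact absurd (congrArg Subtype.val (hs.elim (⟨z, (hK z).2 (Or.inl hz)⟩ : K) 1)) hz1
    · exact h

end Cfsg.Agent.PlusMult
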