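import Cfsg.Agent.Lib.PlusMult.Mid

/-!
The positive part of a twin over the plus type orthogonal group maps injectively.
-/

set_option autoImplicit false
set_option linter.unusedSectionVars false

open scoped commutatorElement

namespace Cfsg.Agent.PlusMult

open Matrix Cfsg.Agent.SimpleFacts.SLnRootLifts Cfsg.Agent.CurtisTitsD
  Cfsg.Agent.CurtisTitsD.Bruhat Cfsg.Agent.Forms Cfsg.Agent.Forms.Reflections Cfsg.Agent.Forms.PlusStd
  Cfsg.Agent.Classical.Orth Cfsg.Agent.Chevalley.Natural

universe u v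

variable {m : ℕ} {F : Type u} [Field F] [Finite F] {E : Type v} [Group E]

local notation "Ix" => (Fin m ⊕ Fin m)

theorem mem_Elr {a b : Ix} {g : Oplus m F} (hg : g ∈ (Elr a b : Subgroup (Oplus m F))) :
    ∃ t, g = el (split m F) a b t := by
  have h0 : el (split m F) a b 0 = (1 : Oplus m F) := by
    have h := (split m F).el_add a b 0 0
    rw [add_zero] at h
    exact mul_eq_left.1 h.symm
  induction hg using Subgroup.closure_induction with
  | mem y hy => obtain ⟨t, rfl⟩ := hy; exact ⟨t, rfl⟩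
  | one => exact ⟨0, h0.symm⟩
  | mul y z _ _ hy hz =>
    obtain ⟨t, rfl⟩ := hy
    obtain ⟨s, rfl⟩ := hz
    exact ⟨t + s, ((split m F).el_add a b t s).symm⟩
  | inv y _ hy =>
    obtain ⟨t, rfl⟩ := hy
    exact ⟨-t, inv_eq_of_mul_eq_one_right (by rw [← (split m F).el_add, add_neg_cancel, h0])⟩

variable {P : Twin m F E} {π : E →* Oplus m F}
  (hp1 : ∀ A, π (P.F1 A) = lev m F A)
  (hp2 : ∀ A, π (P.F2 A) = flip m F P.d * lev m F A * (flip m F P.d)⁻¹)

include hp1 hp2 in
theorem X_ker (h3 : 3 ≤ m) {a b : Ix} {x : E} (hx : x ∈ X P a b) (h1 : π x = 1) : x = 1 := by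
  by_cases hab : a = b
  · rw [hab, X_self] at hx; exact hx
  by_cases hopp : a = Sum.swap b
  · rw [X_symm, hopp, X_opp] at hx; exact hx
  obtain ⟨g, ρ, hg, i, j, hij, hρ⟩ := exists_reduce P h3 hab hopp
  have hx' : g * x * g⁻¹ ∈ R P.F1 i j := by
    have := conj_mem_cj g hx
    rw [(Red.acts P hg).2] at this
    rcases hρ with ⟨e1, e2⟩ | ⟨e1, e2⟩ <;> rw [e1, e2] at this <;> exact this
  obtain ⟨t, ht⟩ := mem_R hx'
  have h2 : lev m F (T i j t) = 1 := by
    rw [← hp1, ← ht, map_mul, map_mul, h1, mul_one, map_inv, mul_inv_cancel]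
  have h3' := congrFun (congrArg (fun f => act f (bv (Sum.inl j))) h2) (Sum.inl i)
  simp only [lev_inl, act_one, T_coe hij] at h3'
  have ht0 : t = 0 := by
    simpa [bv, Matrix.transvection, Matrix.one_apply, Matrix.single_apply, hij] using h3'
  rw [ht0, T_zero, map_one, mul_inv_eq_one, mul_eq_left] at ht
  exact ht

/-- The radical of the stabiliser of the first half. -/
def Rk (P : Twin m F E) : Subgroup E :=
  ⨆ p : Fin m × Fin m, X P (Sum.inl p.1) (Sum.inl p.2)

theorem X_le_Rk (i j : Fin m) : X P (Sum.inl i) (Sum.inl j) ≤ Rk P := le_iSup (fun p : Fin m × Fin m => X P (Sum.inl p.1) (Sum.inl p.2)) (i, j)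

/-- The weight separating the two halves. -/
def wt (a : Ix) : ℤ := Sum.elim (fun _ => 1) (fun _ => -1) a

theorem wt_swap (a : Ix) : wt (Sum.swap a) = -wt a := by rcases a with i | i <;> simp [wt]

theorem Rk_comm (h3 : 3 ≤ m) {x y : E} (hx : x ∈ Rk P) (hy : y ∈ Rk P) : Commute x y := by
  have base : ∀ i j k l : Fin m, ∀ x ∈ X P (Sum.inl i) (Sum.inl j), ∀ y ∈ X P (Sum.inl k) (Sum.inl l),
      Commute x y := fun i j k l x hx y hy => by
    have h := good P h3 (a := Sum.inl i) (b := Sum.inl j) (c := Sum.inl k) (e := Sum.inl l) (by simp)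
      wt wt_swap (Subgroup.commutator_mem_commutator hx hy)
    rw [Commute, SemiconjBy, ← commutatorElement_eq_one_iff_mul_comm, ← Subgroup.mem_bot]
    refine (iSup_le fun u => iSup_le fun v => iSup_le fun e => absurd e ?_ : _ ≤ (⊥ : Subgroup E)) h
    rcases u with u | u <;> rcases v with v | v <;> simp [wt]
  refine Subgroup.iSup_induction (C := fun x => Commute x y) _ hx (fun p x hx => ?_) (Commute.one_left y)
    fun a b ha hb => ha.mul_left hb
  exact Subgroup.iSup_induction (C := fun y => Commute x y) _ hy (fun q y hy => base _ _ _ _ x hx y hy)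
    (Commute.one_right x) fun a b ha hb => ha.mul_right hb

theorem range_le_normalizer (h3 : 3 ≤ m) :
    P.F1.range ≤ Subgroup.normalizer (Rk P : Set E) := by
  rw [MonoidHom.range_eq_map, Subgroup.map_le_iff_le_comap,
    Classical.Linear.eq_top_of_transvection_mem
      ((Subgroup.normalizer (Rk P : Set E)).comap P.F1) fun i j hij c => ?_]
  rw [← T_eq hij]
  have key : ∀ c : F, ∀ y ∈ Rk P, P.F1 (T i j c) * y * (P.F1 (T i j c))⁻¹ ∈ Rk P := fun c y hy => by
    refine Subgroup.iSup_induction (C := fun y => P.F1 (T i j c) * y * (P.F1 (T i j c))⁻¹ ∈ Rk P) _ hy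
      (fun p y hy => ?_) (by simp) fun a b ha hb => ?_
    · rw [show P.F1 (T i j c) * y * (P.F1 (T i j c))⁻¹ = ⁅P.F1 (T i j c), y⁆ * y by
        simp only [commutatorElement_def]; group]
      refine mul_mem ?_ (X_le_Rk _ _ hy)
      refine (iSup_le fun u => iSup_le fun v => iSup_le fun e => ?_ : _ ≤ Rk P)
        (good P h3 (a := Sum.inl i) (b := Sum.inr j) (c := Sum.inl p.1) (e := Sum.inl p.2) (by simp)
          wt wt_swap (Subgroup.commutator_mem_commutator (mem_R_of P.F1 i j c) hy))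
      rcases u with u | u <;> rcases v with v | v <;> simp [wt] at e
      exact X_le_Rk u v
    · rw [show P.F1 (T i j c) * (a * b) * (P.F1 (T i j c))⁻¹ =
        (P.F1 (T i j c) * a * (P.F1 (T i j c))⁻¹) * (P.F1 (T i j c) * b * (P.F1 (T i j c))⁻¹) by group]
      exact mul_mem ha hb
  refine Subgroup.mem_normalizer_iff.2 fun y => ⟨key c y, fun hy => ?_⟩
  have hn : (P.F1 (T i j c))⁻¹ = P.F1 (T i j (-c)) := by
    rw [← map_inv]; congr 1
    exact inv_eq_of_mul_eq_one_right (by rw [← T_add hij, add_neg_cancel, T_zero])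
  have := key (-c) _ hy
  rw [← hn] at this
  simpa [mul_assoc] using this

theorem U_le (h3 : 3 ≤ m) (hd : P.d.val + 1 = m) (hc : P.c.val + 2 = m) :
    (datum P h3 hd hc).U ≤ P.F1.range ⊔ Rk P := by
  refine Ux_le _ fun r hr _ => ?_
  induction r using Sym2.ind with
  | _ a b =>
    show X P a b ≤ _
    have hR : ∀ i j, R P.F1 i j ≤ P.F1.range := fun i j =>
      (Subgroup.closure_le _).2 (by rintro _ ⟨t, rfl⟩; exact ⟨_, rfl⟩)
    rcases a with i | i <;> rcases b with j | j
    · exact le_sup_of_le_right (X_le_Rk i j)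
    · exact le_sup_of_le_left (hR i j)
    · exact le_sup_of_le_left (hR j i)
    · have h : 0 < hgt (Sum.inr i : Ix) + hgt (Sum.inr j : Ix) := hr.2.2
      simp only [hgt] at h
      have := i.2; have := j.2
      omega

/-- Unipotent of the radical shape. -/
def Rad (g : Oplus m F) : Prop :=
  (∀ k, act g (bv (Sum.inl k)) = bv (Sum.inl k)) ∧
    ∀ k l, act g (bv (Sum.inr k)) (Sum.inr l) = bv (Sum.inr k) (Sum.inr l : Ix)

theorem rad_el {a b : Fin m} (_h : a ≠ b) (t : F) : Rad (el (split m F) (Sum.inl a) (Sum.inl b) t) := by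
  refine ⟨fun k => ?_, fun k l => ?_⟩
  · rw [act_el (by simp)]; simp [bv]
  · rw [act_el (by simp)]; simp [bv]

theorem entry_el {a b : Fin m} (h : a ≠ b) (t : F) (k l : Fin m) :
    act (el (split m F) (Sum.inl a) (Sum.inl b) t) (bv (Sum.inr k)) (Sum.inl l) =
      (if k = a ∧ l = b then t else 0) - (if k = b ∧ l = a then t else 0) := by
  rw [act_el (by simp)]
  simp only [bv, Pi.add_apply, Pi.sub_apply, Pi.smul_apply, Pi.single_apply, Sum.swap_inl, smul_eq_mul,
    Sum.inl.injEq, Sum.inr.injEq, reduceCtorEq, if_false]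
  by_cases h1 : k = a <;> by_cases h2 : k = b <;> by_cases h3 : l = a <;> by_cases h4 : l = b <;>
    simp_all [eq_comm]

theorem Rad.mul {g g' : Oplus m F} (h : Rad g) (h' : Rad g') : Rad (g * g') := by
  refine ⟨fun k => by rw [act_mul, h'.1, h.1], fun k l => ?_⟩
  rw [act_mul, act_expand, Fintype.sum_sum_type]
  simp [h.1, h.2, h'.2, bv, Pi.single_apply]

theorem Rad.entry {g g' : Oplus m F} (h : Rad g) (h' : Rad g') (k l : Fin m) :
    act (g * g') (bv (Sum.inr k)) (Sum.inl l) =
      act g (bv (Sum.inr k)) (Sum.inl l) + act g' (bv (Sum.inr k)) (Sum.inl l) := by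
  rw [act_mul, act_expand, Fintype.sum_sum_type]
  simp [h.1, h'.2, bv, Pi.single_apply, add_comm]

include hp1 hp2 in
theorem X_el (h3 : 3 ≤ m) {a b : Fin m} (h : a ≠ b) {x : E} (hx : x ∈ X P (Sum.inl a) (Sum.inl b)) :
    ∃ t, π x = el (split m F) (Sum.inl a) (Sum.inl b) t :=
  mem_Elr (map_X hp1 hp2 h3 (fun e => h (Sum.inl.inj e)) (by simp) ▸ Subgroup.mem_map_of_mem π hx)

include hp1 hp2 in
theorem Rk_ker (h3 : 3 ≤ m) {x : E} (hx : x ∈ Rk P) (h1 : π x = 1) : x = 1 := by
  classical
  have main : ∀ S : Finset (Fin m × Fin m), (∀ p ∈ S, p.1.val < p.2.val) →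
      ∀ x ∈ ⨆ p ∈ S, X P (Sum.inl p.1) (Sum.inl p.2),
        Rad (π x) ∧ (∀ k l, k.val < l.val → (k, l) ∉ S → act (π x) (bv (Sum.inr k)) (Sum.inl l) = 0) ∧
          (π x = 1 → x = 1) := by
    intro S
    induction S using Finset.induction with
    | empty =>
      intro _ x hx
      simp only [Finset.notMem_empty, iSup_false, iSup_bot, Subgroup.mem_bot] at hx
      subst hx
      rw [map_one]
      exact ⟨⟨fun k => by rw [act_one], fun k l => by rw [act_one]⟩, fun k l _ _ => by simp [act_one, bv],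
        fun _ => rfl⟩
    | insert q S hq ih =>
      intro hS x hx
      rw [Finset.iSup_insert] at hx
      have hle : (⨆ p ∈ S, X P (Sum.inl p.1) (Sum.inl p.2)) ≤ Rk P :=
        iSup_le fun p => iSup_le fun _ => X_le_Rk _ _
      have hn : X P (Sum.inl q.1) (Sum.inl q.2) ≤
          Subgroup.normalizer ((⨆ p ∈ S, X P (Sum.inl p.1) (Sum.inl p.2) : Subgroup E) : Set E) :=
        fun y hy => Subgroup.mem_normalizer_iff.2 fun z => by
          constructor <;> intro hz
          · rw [(Rk_comm h3 (X_le_Rk _ _ hy) (hle hz)).eq, mul_inv_cancel_right]; exact hz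
          · have := (Rk_comm h3 (inv_mem (X_le_Rk _ _ hy)) (hle hz)).eq
            rw [show y⁻¹ * (y * z * y⁻¹) = z * y⁻¹ by group] at this
            rw [mul_right_cancel this]; exact hz
      rw [← SetLike.mem_coe, Subgroup.coe_mul_of_left_le_normalizer_right _ _ hn] at hx
      obtain ⟨y, hy, z, hz, rfl⟩ := hx
      obtain ⟨r1, r2, r3⟩ := ih (fun p hp => hS p (Finset.mem_insert_of_mem hp)) z hz
      have hlt := hS q (Finset.mem_insert_self _ _)
      have hne : q.1 ≠ q.2 := fun e => by rw [e] at hlt; omega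
      obtain ⟨t, ht⟩ := X_el hp1 hp2 h3 hne hy
      have hy' : Rad (π y) := ht ▸ rad_el hne t
      refine ⟨by rw [map_mul]; exact hy'.mul r1, fun k l hkl hn' => ?_, fun h => ?_⟩
      · rw [map_mul, hy'.entry r1, r2 k l hkl fun h => hn' (Finset.mem_insert_of_mem h), add_zero, ht,
          entry_el hne, if_neg, if_neg, sub_zero]
        · rintro ⟨rfl, rfl⟩; omega
        · rintro ⟨rfl, rfl⟩; exact hn' (Finset.mem_insert_self _ _)
      · have e := congrFun (congrArg (fun f => act f (bv (Sum.inr q.1))) h) (Sum.inl q.2)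
        simp only [map_mul] at e
        rw [hy'.entry r1, r2 q.1 q.2 hlt hq, add_zero, ht, entry_el hne, act_one] at e
        rw [if_pos ⟨rfl, rfl⟩, if_neg (fun h => hne h.1), sub_zero] at e
        have ht0 : t = 0 := by simpa [bv] using e
        have h0 : el (split m F) (Sum.inl q.1) (Sum.inl q.2) (0 : F) = (1 : Oplus m F) := by
          have h := (split m F).el_add (Sum.inl q.1) (Sum.inl q.2) 0 0
          rw [add_zero] at h
          exact mul_eq_left.1 h.symm
        have hy1 : y = 1 := X_ker hp1 hp2 h3 hy (by rw [ht, ht0, h0])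
        subst hy1
        simp only [one_mul] at h ⊢
        exact r3 h
  refine (main (Finset.univ.filter fun p => p.1.val < p.2.val) (fun p hp => (Finset.mem_filter.1 hp).2) x ?_).2.2 h1
  refine (iSup_le fun p => ?_ : Rk P ≤ _) hx
  rcases lt_trichotomy p.1.val p.2.val with h | h | h
  · exact le_iSup_of_le p (le_iSup_of_le (Finset.mem_filter.2 ⟨Finset.mem_univ _, h⟩) le_rfl)
  · rw [Fin.ext h, X_self]; exact bot_le
  · rw [X_symm]
    exact le_iSup_of_le (p.2, p.1) (le_iSup_of_le (Finset.mem_filter.2 ⟨Finset.mem_univ _, h⟩) le_rfl)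

include hp1 hp2 in
theorem Rk_fix (h3 : 3 ≤ m) {x : E} (hx : x ∈ Rk P) (k : Fin m) :
    act (π x) (bv (Sum.inl k)) = bv (Sum.inl k) := by
  refine Subgroup.iSup_induction (C := fun x => act (π x) (bv (Sum.inl k)) = bv (Sum.inl k)) _ hx
    (fun p x hx => ?_) (by rw [map_one, act_one]) fun a b ha hb => by rw [map_mul, act_mul, hb, ha]
  by_cases h : p.1 = p.2
  · rw [h, X_self] at hx; rw [Subgroup.mem_bot.1 hx, map_one, act_one]
  obtain ⟨t, ht⟩ := X_el hp1 hp2 h3 h hx
  rw [ht]
  exact (rad_el h t).1 k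

include hp1 hp2 in
/-- The positive part maps injectively. -/
theorem U_ker (h3 : 3 ≤ m) (hd : P.d.val + 1 = m) (hc : P.c.val + 2 = m) {u : E}
    (hu : u ∈ (datum P h3 hd hc).U) (h1 : π u = 1) : u = 1 := by
  have hu' := U_le h3 hd hc hu
  rw [← SetLike.mem_coe, Subgroup.coe_mul_of_left_le_normalizer_right _ _ (range_le_normalizer h3)] at hu'
  obtain ⟨_, ⟨A, rfl⟩, r, hr, rfl⟩ := hu'
  have hA : A = 1 := Subtype.ext (Matrix.ext fun i k => by
    have e := congrFun (congrArg (fun f => act f (bv (Sum.inl k))) h1) (Sum.inl i)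
    simp only [map_mul, act_mul, Rk_fix hp1 hp2 h3 hr, hp1, act_one, lev_inl, Sum.elim_inl] at e
    rw [e]
    simp [bv, Pi.single_apply, Matrix.one_apply])
  subst hA
  simp only [map_one, one_mul] at h1 ⊢
  exact Rk_ker hp1 hp2 h3 hr h1

end Cfsg.Agent.PlusMult
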