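import Cfsg.Agent.Lib.PlusMult.Weyl
import Cfsg.Agent.Lib.PlusMult.Unip

/-!
A perfect central extension of the plus type group `Ω` has kernel of order at most two, and at most one in
characteristic two.
-/

set_option autoImplicit false
set_option linter.unusedSectionVars false

namespace Cfsg.Agent.PlusMult

open Matrix Cfsg.Agent.SimpleFacts.SLnRootLifts Cfsg.Agent.CurtisTitsD
  Cfsg.Agent.CurtisTitsD.Bruhat Cfsg.Agent.Forms Cfsg.Agent.Forms.Reflections Cfsg.Agent.Forms.PlusStd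
  Cfsg.Agent.Classical.Orth Cfsg.Agent.Chevalley.Natural

universe u v

variable {m : ℕ} {F : Type u} [Field F] [Finite F] {E : Type v} [Group E] [Finite E]

local notation "Ix" => (Fin m ⊕ Fin m)

/-- The negation. -/
def IsNeg (g : Oplus m F) : Prop := ∀ k : Ix, act g (bv k) = (-1 : F) • bv k

theorem IsNeg.apply {g : Oplus m F} (h : IsNeg g) (x : Ix → F) : act g x = (-1 : F) • x := by
  funext z
  rw [act_expand]
  simp [h _, bv, Pi.single_apply]

theorem IsNeg.comm {g : Oplus m F} (h : IsNeg g) (a : Oplus m F) : g * a = a * g :=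
  act_ext fun x => by rw [act_mul, act_mul, h.apply, h.apply, map_smul]

theorem IsNeg.sq {g : Oplus m F} (h : IsNeg g) : g * g = 1 :=
  act_ext fun x => by rw [act_mul, h.apply, h.apply, act_one, smul_smul, neg_mul_neg, one_mul, one_smul]

theorem IsNeg.unique {g g' : Oplus m F} (h : IsNeg g) (h' : IsNeg g') : g = g' :=
  act_ext fun x => by rw [h.apply, h'.apply]

theorem IsNeg.MP {g : Oplus m F} (h : IsNeg g) : MP g 1 :=
  ⟨fun _ => rfl, fun k => ⟨-1, neg_ne_zero.2 one_ne_zero, h k⟩⟩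

theorem isNeg_of_inl {g : Oplus m F} (hM : CurtisTitsD.MP g 1)
    (h : ∀ i, act g (bv (Sum.inl i)) = (-1 : F) • bv (Sum.inl i)) : IsNeg g := by
  rintro (i | i)
  · exact h i
  obtain ⟨s, -, e⟩ := hM.2 (Sum.inr i)
  have hB : QuadraticMap.polar (plusQ F m) (bv (Sum.inl i : Ix)) (bv (Sum.inr i : Ix)) = (1 : F) :=
    (split m F).B_op (a := Sum.inl i) rfl
  have := act_polar g (bv (Sum.inl i : Ix)) (bv (Sum.inr i : Ix))
  rw [h, e, QuadraticMap.polar_smul_left, QuadraticMap.polar_smul_right, Equiv.Perm.one_apply, hB] at this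
  simp only [smul_eq_mul, mul_one] at this
  rw [e, Equiv.Perm.one_apply, show s = -1 by linear_combination -this]

/-- A monomial triangular isometry is trivial. -/
theorem eq_one_of_tri {g : Oplus m F} {ρ : Equiv.Perm Ix} (hM : CurtisTitsD.MP g ρ) (ht : IsTri g) :
    g = 1 := by
  refine (split m F).ext_bv fun k => ?_
  obtain ⟨s, hs, e⟩ := hM.2 k
  have h1 := (ht k).1
  rw [e] at h1
  have hρ : ρ k = k := by
    by_contra hne
    simp [bv, Ne.symm hne] at h1
  rw [hρ] at e h1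
  rw [act_one, e, show s = 1 by simpa [bv] using h1, one_smul]

variable {π : E →* Oplus m F} {P : Twin m F E}
  (hp1 : ∀ A, π (P.F1 A) = lev m F A)
  (hp2 : ∀ A, π (P.F2 A) = flip m F P.d * lev m F A * (flip m F P.d)⁻¹)

include hp1 hp2 in
theorem range_top (hπ : Over π) (hperf : commutator E = ⊤) : P.F1.range ⊔ P.F2.range = ⊤ := by
  have h3 : 3 ≤ m := by have := hπ.big; omega
  refine Lift.commutator_eq_top_of_sup hperf fun x => ?_
  obtain ⟨y, hy, e⟩ : π x ∈ (P.F1.range ⊔ P.F2.range).map π := by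
    rw [map_range_eq_omega hp1 hp2 h3, ← hπ.range]
    exact ⟨x, rfl⟩
  exact ⟨y, hy, Lift.div_mem_center hπ.central e.symm⟩

include hp1 hp2 in
theorem exists_cell (hπ : Over π) (hperf : commutator E = ⊤) (hd : P.d.val + 1 = m) (hc : P.c.val + 2 = m)
    (h3 : 3 ≤ m) (x : E) :
    ∃ u ∈ (datum P h3 hd hc).U, ∃ g ∈ (datum P h3 hd hc).N, ∃ v ∈ (datum P h3 hd hc).U, x = u * g * v :=
  mem_cells _ (range_le_nodes h3 hd hc ((range_top hp1 hp2 hπ hperf).ge (Subgroup.mem_top x)))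

include hp1 hp2 in
theorem isTri_mul_inv (h3 : 3 ≤ m) (hd : P.d.val + 1 = m) (hc : P.c.val + 2 = m) {u v : E}
    (hu : u ∈ (datum P h3 hd hc).U) (hv : v ∈ (datum P h3 hd hc).U) : IsTri (π (u * v)) :=
  isTri_U hp1 hp2 h3 hd hc (mul_mem hu hv)

include hp1 hp2 in
/-- The kernel lies in the torus. -/
theorem ker_mem_tor (hπ : Over π) (hperf : commutator E = ⊤) (hd : P.d.val + 1 = m) (hc : P.c.val + 2 = m)
    {k : E} (hk : π k = 1) : k ∈ Tor P := by
  have h3 : 3 ≤ m := by have := hπ.big; omega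
  obtain ⟨u, hu, g, hg, v, hv, rfl⟩ := exists_cell hp1 hp2 hπ hperf hd hc h3 k
  obtain ⟨ρ, -, hM⟩ := exists_MP hp1 hp2 h3 hd hc hg
  have hgT : π g = π (u⁻¹ * v⁻¹) := by
    rw [map_mul, map_mul] at hk
    rw [map_mul, map_inv, map_inv]
    calc π g = (π u)⁻¹ * (π u * π g * π v) * (π v)⁻¹ := by group
      _ = (π u)⁻¹ * (π v)⁻¹ := by rw [hk, mul_one]
  have hg1 : π g = 1 := eq_one_of_tri hM (hgT ▸ isTri_mul_inv hp1 hp2 h3 hd hc (inv_mem hu) (inv_mem hv))
  have huv : u * v = 1 := U_ker hp1 hp2 h3 hd hc (mul_mem hu hv) (by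
    rw [map_mul, map_mul, hg1, mul_one] at hk
    rw [map_mul, hk])
  have hv' : v = u⁻¹ := eq_inv_of_mul_eq_one_right huv
  rw [hv', Subgroup.mem_center_iff.1 (hπ.central (MonoidHom.mem_ker.2 hg1)) u, mul_inv_cancel_right]
  exact mem_tor_of_MP hp1 hp2 h3 hd hc hg (by rw [hg1]; exact MP.one)

include hp1 hp2 in
/-- The preimages of the negation lie in the torus. -/
theorem neg_mem_tor (hπ : Over π) (hperf : commutator E = ⊤) (hd : P.d.val + 1 = m) (hc : P.c.val + 2 = m)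
    {x : E} (hx : IsNeg (π x)) : x ∈ Tor P := by
  have h3 : 3 ≤ m := by have := hπ.big; omega
  obtain ⟨u, hu, g, hg, v, hv, e⟩ := exists_cell hp1 hp2 hπ hperf hd hc h3 x
  obtain ⟨ρ, -, hM⟩ := exists_MP hp1 hp2 h3 hd hc hg
  have he : π g = π x * π (u⁻¹ * v⁻¹) := by
    rw [map_mul, map_inv, map_inv, ← mul_assoc, hx.comm, e, map_mul, map_mul]
    group
  have ht := isTri_mul_inv hp1 hp2 h3 hd hc (inv_mem hu) (inv_mem hv)
  have hM' : CurtisTitsD.MP (π (u⁻¹ * v⁻¹)) ρ := by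
    have := (IsNeg.MP hx).inv.mul hM
    rwa [inv_one, one_mul, he, inv_mul_cancel_left] at this
  have hg1 : π g = π x := by rw [he, eq_one_of_tri hM' ht, mul_one]
  have hgT : g ∈ Tor P := mem_tor_of_MP hp1 hp2 h3 hd hc hg (by rw [hg1]; exact IsNeg.MP hx)
  have hk : g⁻¹ * x ∈ Tor P :=
    ker_mem_tor hp1 hp2 hπ hperf hd hc (by rw [map_mul, map_inv, hg1, inv_mul_cancel])
  have := mul_mem hgT hk
  rwa [mul_inv_cancel_left] at this

omit [Finite E] in
/-- The invariants of a perfect central extension of `Ω`. -/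
theorem kernel_facts [Finite E] (hπ : Over π) (hperf : commutator E = ⊤) :
    ∃ z : E, π z = 1 ∧ ((2 : F) = 0 → z = 1) ∧ (∀ x, π x = 1 → x = 1 ∨ x = z) ∧
      (∀ x, IsNeg (π x) → ∃ a : Fˣ, a * a = (-1) ^ m ∧ ((Even m → x * x = 1) ∧ (Odd m → x * x = z))) ∧
      ∀ a : Fˣ, a * a = (-1) ^ m → ∃ x, IsNeg (π x) := by
  obtain ⟨Q, hd, hc, h1, h2⟩ := exists_twin hπ
  have h1' : ∀ A, π (Q.F1 A) = lev m F A := h1
  refine ⟨zed Q (-1 : Fˣ), ?_, fun h => ?_, fun x hx =>
    tor_ker' h1' h2 (ker_mem_tor h1' h2 hπ hperf hd hc hx) hx, fun x hx => ?_, fun a ha => ?_⟩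
  · rw [zed, map_mul, h1', h2]
    refine (split m F).ext_bv fun k => ?_
    obtain ⟨e1, e2, e3⟩ := (split m F).act_swp (a := Sum.inl Q.d) rfl (one_ne_zero (α := F))
    have f1 : act (flip m F Q.d) (bv (Sum.inl Q.d)) = -(1 : F) • bv (Sum.inr Q.d) := e1
    have f2 : act (flip m F Q.d) (bv (Sum.inr Q.d)) = -(1 : F)⁻¹ • bv (Sum.inl Q.d) := e2
    rw [flip_inv, act_mul, act_mul, act_mul, act_one]
    rcases k with k | k <;> by_cases hk : k = Q.d
    · subst hk
      simp only [f1, f2, map_smul, act_dg_inr, act_dg_inl, hp_snd Q.hcd]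
      simp
    · have f3 : act (flip m F Q.d) (bv (Sum.inl k)) = bv (Sum.inl k) := e3 _ (by simp [hk]) (by simp)
      simp only [f3, map_smul, act_dg_inl]
      by_cases hkc : k = Q.c
      · subst hkc; simp [hp_fst Q.hcd]
      · simp [hp_other hkc hk]
    · subst hk
      simp only [f1, f2, map_smul, act_dg_inl, act_dg_inr, hp_snd Q.hcd]
      simp
    · have f3 : act (flip m F Q.d) (bv (Sum.inr k)) = bv (Sum.inr k) := e3 _ (by simp) (by simp [hk])
      simp only [f3, map_smul, act_dg_inr]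
      by_cases hkc : k = Q.c
      · subst hkc; simp [hp_fst Q.hcd]
      · simp [hp_other hkc hk]
  · rw [show (-1 : Fˣ) = 1 from Units.ext (by
      rw [Units.val_neg, Units.val_one]; linear_combination (-1 : F) * h), zed_one]
  · obtain ⟨a, ha, e⟩ := tor_neg h1' h2 (neg_mem_tor h1' h2 hπ hperf hd hc hx) (fun i => hx _)
      (by rw [map_mul]; exact hx.sq)
    refine ⟨a, ha, fun hm => ?_, fun hm => ?_⟩
    · rw [e, ha, hm.neg_one_pow, zed_one]
    · rw [e, ha, hm.neg_one_pow]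
  · obtain ⟨x, hx, h⟩ := exists_tor_neg h1' h2 a ha
    exact ⟨x, isNeg_of_inl (MP_tor h1' h2 hx) h⟩

end Cfsg.Agent.PlusMult
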