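import Cfsg.Agent.Lib.CurtisTitsD.Recognition
import Cfsg.Agent.SimpleFacts.SLnMultiplier
import Cfsg.Agent.Lib.PlusMult.Lift

/-!
The two Levi homomorphisms lifted into a central extension of the plus type group form a twin.
-/

set_option autoImplicit false
set_option linter.unusedSectionVars false

open scoped commutatorElement

namespace Cfsg.Agent.PlusMult

open Matrix Cfsg.Agent.SimpleFacts.SLnRootLifts Cfsg.Agent.SimpleFacts.SLnSystem
  Cfsg.Agent.SimpleFacts.SLnCosets Cfsg.Agent.CurtisTitsD Cfsg.Agent.CurtisTitsD.Bruhat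
  Cfsg.Agent.Forms Cfsg.Agent.Forms.Reflections Cfsg.Agent.Forms.PlusStd
  Cfsg.Agent.Classical.Orth Cfsg.Agent.Chevalley.Natural

universe u v

variable {m : ℕ} {F : Type u} [Field F] [Finite F]

local notation "Ix" => (Fin m ⊕ Fin m)

theorem T_brk {i j z : Fin m} (hij : i ≠ j) (hiz : i ≠ z) (hzj : z ≠ j) (t : F) :
    ⁅T i z t, T z j (1 : F)⁆ = T i j t := by rw [T_bracket hij hiz hzj, mul_one]

theorem flip_comm {d z : Fin m} (h : d ≠ z) : flip m F d * flip m F z = flip m F z * flip m F d := by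
  have e := Spinor.reflect_conj (flip m F d) (bv (Sum.inl z) + (1 : F) • bv (Sum.swap (Sum.inl z)))
  obtain ⟨-, -, e3⟩ := (split m F).act_swp (a := Sum.inl d) rfl (one_ne_zero (α := F))
  have hfix : act (flip m F d) (bv (Sum.inl z) + (1 : F) • bv (Sum.swap (Sum.inl z))) =
      bv (Sum.inl z) + (1 : F) • bv (Sum.swap (Sum.inl z)) := by
    rw [map_add, map_smul]
    show act (swp (plusQ F m) Sum.swap (Sum.inl d) 1) _ + _ • act (swp (plusQ F m) Sum.swap (Sum.inl d) 1) _ = _
    rw [e3 _ (by simp [Ne.symm h]) (by simp), e3 _ (by simp) (by simp [Ne.symm h])]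
  rw [hfix, mul_inv_eq_iff_eq_mul] at e
  exact e

theorem lev2_same {i j z : Fin m} (hij : i ≠ j) (hi : i ≠ z) (hj : j ≠ z) (t : F) :
    lev2 z (T i j t) = lev m F (T i j t) := flip_commute_lev hij hi hj t

/-- A change of sign applied to a root element. -/
theorem flip_el (z : Fin m) {a b : Ix} (hb : b ≠ Sum.swap a) (t : F) {a' b' : Ix} {s s' : F}
    (ha' : act (flip m F z) (bv a) = s • bv a') (hb' : act (flip m F z) (bv b) = s' • bv b')
    (hne : b' ≠ Sum.swap a') :
    flip m F z * el (split m F) a b t * (flip m F z)⁻¹ = el (split m F) a' b' (s * (t * s')) := by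
  rw [(split m F).el_eq rfl hb, eich_conj]
  have e1 : act (flip m F z) (t • bv b) = (t * s') • bv b' := by rw [map_smul, hb', smul_smul]
  simp only [ha', e1]
  rw [eich_smul s _ _ ((split m F).Q_bv rfl)
      (by rw [smul_smul, QuadraticMap.polar_smul_right, (split m F).B_ne hne, smul_zero]),
    eich_congr (smul_smul s (t * s') (bv b' : Ix → F)), (split m F).el_eq rfl hne]

theorem lev2_move {d z : Fin m} (h : d ≠ z) (t : F) :
    lev2 z (T d z t) = lev2 d (T z d (-t)) := by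
  obtain ⟨-, a2, a3⟩ := (split m F).act_swp (a := Sum.inl z) rfl (one_ne_zero (α := F))
  obtain ⟨-, b2, b3⟩ := (split m F).act_swp (a := Sum.inl d) rfl (one_ne_zero (α := F))
  have hm : ∀ k, (-(1 : F)⁻¹) = k → k = -1 := fun k e => by rw [← e, inv_one]
  show flip m F z * lev m F (T d z t) * (flip m F z)⁻¹ =
    flip m F d * lev m F (T z d (-t)) * (flip m F d)⁻¹
  rw [lev_T h, lev_T h.symm]
  have e1 : act (flip m F z) (bv (Sum.inl d)) = (1 : F) • bv (Sum.inl d) := by
    rw [one_smul]; exact a3 _ (by simp [h]) (by simp)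
  have e2 : act (flip m F z) (bv (Sum.inr z)) = (-1 : F) • bv (Sum.inl z) := by
    rw [← hm _ rfl]; exact a2
  have e3 : act (flip m F d) (bv (Sum.inl z)) = (1 : F) • bv (Sum.inl z) := by
    rw [one_smul]; exact b3 _ (by simp [Ne.symm h]) (by simp)
  have e4 : act (flip m F d) (bv (Sum.inr d)) = (-1 : F) • bv (Sum.inl d) := by
    rw [← hm _ rfl]; exact b2
  rw [flip_el z (by simp [h.symm]) _ e1 e2 (by simp), flip_el d (by simp [h]) _ e3 e4 (by simp),
    el_swap (a := Sum.inl z) (b := Sum.inl d) (by simp)]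
  congr 1
  ring

variable {E : Type v} [Group E] [Finite E] (π : E →* Oplus m F)

/-- The hypotheses on the extension. -/
structure Over : Prop where
  big : 3 ≤ m
  exc : (4 ≤ m ∧ ¬ (m = 4 ∧ Nat.card F = 2)) ∨ (Nat.card F ≠ 4 ∧ ∃ a : F, a ≠ 0 ∧ a * a ≠ 1) ∨
    (Nat.card F = 3 ∧ ∀ x, π x = 1 → ∃ n, x ^ 2 ^ n = 1)
  central : π.ker ≤ Subgroup.center E
  range : π.range = commutator (Oplus m F)

variable {π}

theorem commutator_top (hπ : Over π) : commutator (SpecialLinearGroup (Fin m) F) = ⊤ :=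
  Classical.Linear.commutator_SL_eq_top (n := Fin m) (F := F) (by simpa using (show 3 ≤ m by have := hπ.big; omega))

theorem range_le_commutator (hπ : Over π) (f : SpecialLinearGroup (Fin m) F →* Oplus m F) :
    f.range ≤ commutator (Oplus m F) := by
  rw [MonoidHom.range_eq_map, ← commutator_top hπ, map_commutator_eq]
  exact Subgroup.commutator_mono le_top le_top

theorem exc_small [Fintype F] (hπ : Over π) :
    (m = 3 → Fintype.card F ≠ 2 ∧ Fintype.card F ≠ 4) ∧ (m = 4 → Fintype.card F ≠ 2) := by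
  rcases hπ.exc with ⟨h4, he⟩ | ⟨he, a, ha, ha'⟩ | ⟨he, -⟩
  · exact ⟨fun e => absurd e (by omega), fun e e' => he ⟨e, by rw [Nat.card_eq_fintype_card]; exact e'⟩⟩
  · have h2 : Fintype.card F ≠ 2 := fun e => ha' (by
      have := FiniteField.pow_card_sub_one_eq_one a ha
      rw [e] at this
      simp at this
      rw [this, one_mul])
    exact ⟨fun _ => ⟨h2, by rwa [← Nat.card_eq_fintype_card]⟩, fun _ => h2⟩
  · rw [Nat.card_eq_fintype_card] at he
    exact ⟨fun _ => ⟨by omega, by omega⟩, fun _ => by omega⟩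

theorem exists_lift (hπ : Over π) (f : SpecialLinearGroup (Fin m) F →* Oplus m F) :
    ∃ g : SpecialLinearGroup (Fin m) F →* E, ∀ A, π (g A) = f A := by
  have := Fintype.ofFinite F
  classical
  obtain ⟨g, hg⟩ := Lift.exists_lift (commutator_top hπ)
    (fun Γ _ _ σ hσ => SimpleFacts.SLnMultiplier.ker_bot σ hσ (by have := hπ.big; omega)
      (exc_small hπ))
    π hπ.central f (hπ.range ▸ range_le_commutator hπ f)
  exact ⟨g, fun A => DFunLike.congr_fun hg A⟩

theorem exists_fresh (h4 : 4 ≤ m) (a b c : Fin m) : ∃ w, w ≠ a ∧ w ≠ b ∧ w ≠ c := by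
  by_contra h
  push Not at h
  have : (Finset.univ : Finset (Fin m)) ⊆ {a, b, c} := fun w _ => by
    by_cases h1 : w = a
    · simp [h1]
    by_cases h2 : w = b
    · simp [h2]
    simp [h w h1 h2]
  have := (Finset.card_le_card this).trans Finset.card_le_three
  rw [Finset.card_univ, Fintype.card_fin] at this
  omega

theorem exists_third (h3 : 3 ≤ m) (a b : Fin m) : ∃ w, w ≠ a ∧ w ≠ b :=
  Classical.Linear.exists_third (by rw [Fintype.card_fin]; exact h3) a b

/-- Two lifts agree on a root group when their images agree on the roots avoiding an index. -/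
theorem root_eq (hπ : Over π) {L L' : SpecialLinearGroup (Fin m) F →* E} {i j k : Fin m} (hij : i ≠ j)
    (hik : i ≠ k) (hjk : j ≠ k)
    (h : ∀ a b, a ≠ b → a ≠ k → b ≠ k → ∀ t, π (L (T a b t)) = π (L' (T a b t))) (t : F) :
    L (T i j t) = L' (T i j t) := by
  rcases hπ.exc with ⟨h4, -⟩ | ⟨-, a, ha, ha'⟩ | ⟨h3, hk⟩
  · obtain ⟨w, w1, w2, w3⟩ := exists_fresh h4 i j k
    rw [← T_brk hij w1.symm w2]
    exact Lift.agree hπ.central (h i w w1.symm hik w3 t) (h w j w2 w3 hjk 1)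
  rotate_left
  · -- the lifts have order three and differ by a kernel element of two-power order
    have h0 : (3 : F) = 0 := by
      have := Fintype.ofFinite F
      have h3' := Nat.cast_card_eq_zero F
      rw [← Nat.card_eq_fintype_card, h3] at h3'
      exact_mod_cast h3'
    have hcube : ∀ M : SpecialLinearGroup (Fin m) F →* E, M (T i j t) ^ 3 = 1 := fun M => by
      rw [← map_pow, pow_succ, pow_two, ← T_add hij, ← T_add hij,
        show t + t + t = 0 by linear_combination t * h0, T_zero, map_one]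
    obtain ⟨d, hd⟩ : ∃ d, d = (L (T i j t))⁻¹ * L' (T i j t) := ⟨_, rfl⟩
    have hdk : π d = 1 := by rw [hd, map_mul, map_inv, h i j hij hik hjk t, inv_mul_cancel]
    have hdc : Commute (L (T i j t)) d :=
      Subgroup.mem_center_iff.1 (hπ.central (MonoidHom.mem_ker.2 hdk)) _
    have e : L' (T i j t) = L (T i j t) * d := by rw [hd, mul_inv_cancel_left]
    have hd3 : d ^ 3 = 1 := by
      have := hcube L'
      rwa [e, hdc.mul_pow, hcube L, one_mul] at this
    obtain ⟨n, hn⟩ := hk d hdk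
    have hg : d ^ (Nat.gcd (2 ^ n) 3) = 1 := pow_gcd_eq_one.2 ⟨hn, hd3⟩
    rw [(Nat.Coprime.pow_left n (show Nat.Coprime 2 3 by decide)).gcd_eq_one, pow_one] at hg
    rw [e, hg, mul_one]
  obtain ⟨g, hg⟩ : ∃ g, g = wS i j a * wS i j (-1 : F) := ⟨_, rfl⟩
  have hm := h_monomial (SteinbergSL.Chain.idSystem (F := F) (N := m)) hij ha
  have hm' : IsMonomial g 1 fun l => if l = i then a else if l = j then a⁻¹ else 1 := hg ▸ hm
  have hd : a * a - 1 ≠ 0 := sub_ne_zero.2 ha'
  have e : ⁅g, T i j (t / (a * a - 1))⁆ = T i j t := by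
    rw [commutatorElement_def, hm'.conj hij, inv_eq_of_mul_eq_one_right (a := T i j (t / (a * a - 1)))
      (b := T i j (-(t / (a * a - 1)))) (by rw [← T_add hij, add_neg_cancel, T_zero])]
    simp only [Equiv.Perm.one_apply, if_true, hij.symm, if_false, ← T_add hij, div_inv_eq_mul]
    congr 1
    linear_combination div_mul_cancel₀ t hd
  rw [← e]
  refine Lift.agree hπ.central ?_ (h i j hij hik hjk _)
  simp only [hg, wS, map_mul, h i j hij hik hjk, h j i hij.symm hjk hik]

variable {L1 L2 : SpecialLinearGroup (Fin m) F →* E} {d : Fin m}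
  (h1 : ∀ A, π (L1 A) = lev m F A) (h2 : ∀ A, π (L2 A) = lev2 d A)

include h1 h2

theorem top (hπ : Over π) {i j : Fin m} (hi : i ≠ d) (hj : j ≠ d) (t : F) :
    L1 (T i j t) = L2 (T i j t) := by
  by_cases hij : i = j
  · simp [T, hij]
  exact root_eq hπ hij hi hj (fun a b hab ha hb t => by rw [h1, h2, lev2_same hab ha hb]) t

/-- The two lifts commute on the pair of roots sharing `c`. -/
theorem mid_first (hπ : Over π) {c : Fin m} (hcd : c ≠ d) (t u : F) :
    Commute (L1 (T c d t)) (L2 (T c d u)) := by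
  obtain ⟨z, hzc, hzd⟩ := exists_third hπ.big c d
  obtain ⟨L3, h3⟩ := exists_lift hπ (lev2 z)
  obtain ⟨L4, h4⟩ := exists_lift hπ ((MulAut.conj (flip m F d)).toMonoidHom.comp (lev2 z))
  have h4' : ∀ A, π (L4 A) = flip m F d * lev2 z A * (flip m F d)⁻¹ := fun A => h4 A
  have hfi : (flip m F d)⁻¹ = flip m F d := flip_inv d
  -- the common image of the last root
  have h34 : ∀ s, L3 (T c z s) = L4 (T c z s) := fun s => by
    refine root_eq hπ hzc.symm hcd hzd (fun a b hab ha hb t => ?_) s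
    have e : flip m F z * lev m F (T a b t) * (flip m F z)⁻¹ = lev2 z (T a b t) := rfl
    rw [h3, h4', ← e, show flip m F d * (flip m F z * lev m F (T a b t) * (flip m F z)⁻¹) * (flip m F d)⁻¹ =
        (flip m F d * flip m F z) * lev m F (T a b t) * (flip m F d * flip m F z)⁻¹ by group,
      flip_comm hzd.symm,
      show flip m F z * flip m F d * lev m F (T a b t) * (flip m F z * flip m F d)⁻¹ =
        flip m F z * (flip m F d * lev m F (T a b t) * (flip m F d)⁻¹) * (flip m F z)⁻¹ by group,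
      flip_commute_lev hab ha hb]
  obtain ⟨x, hx⟩ : ∃ x, x = L1 (T c z 1) := ⟨_, rfl⟩
  have hx2 : x = L2 (T c z 1) := hx.trans (top h1 h2 hπ hcd hzd 1)
  obtain ⟨g, hg⟩ : ∃ g, g = L1 (T z d (-t)) := ⟨_, rfl⟩
  obtain ⟨a, ha⟩ : ∃ a, a = L2 (T z d (-u)) := ⟨_, rfl⟩
  have e1 : ∀ (L : SpecialLinearGroup (Fin m) F →* E) (s : F),
      L (T z d (-s)) * L (T c z 1) * (L (T z d (-s)))⁻¹ = L (T c z 1) * L (T c d s) := fun L s => by
    have hb : ⁅T c z (-1 : F), T z d (-s)⁆ = T c d s := by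
      rw [T_bracket hcd hzc.symm hzd, neg_mul_neg, one_mul]
    have hneg : (T c z (-1 : F))⁻¹ = T c z 1 :=
      inv_eq_of_mul_eq_one_right (by rw [← T_add hzc.symm, neg_add_cancel, T_zero])
    rw [← map_inv, ← map_mul, ← map_mul, ← map_mul, ← hb, commutatorElement_def, hneg]
    congr 1
    rw [← hneg]
    group
  have eg : g * x * g⁻¹ = x * L1 (T c d t) := by rw [hg, hx]; exact e1 L1 t
  have ea : a * x * a⁻¹ = x * L2 (T c d u) := by rw [ha, hx2]; exact e1 L2 u
  have hag : ⁅a, g⁆ ∈ Subgroup.center E := hπ.central (by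
    rw [MonoidHom.mem_ker, map_commutatorElement, ha, hg, h1, h2,
      commutatorElement_eq_one_iff_mul_comm]
    exact (lev_commute hzd (-t) (-u)).1.eq.symm)
  have hnegT : ∀ s : F, (T c d s)⁻¹ = T c d (-s) := fun s =>
    inv_eq_of_mul_eq_one_right (by rw [← T_add hcd, add_neg_cancel, T_zero])
  have hk : ⁅(L1 (T c d t))⁻¹, a⁆ = L3 (T c z (-t * u)) := by
    rw [← map_inv, hnegT, ha, ← T_bracket hzc.symm hcd hzd.symm, map_commutatorElement]
    refine Lift.comm_congr (Lift.div_mem_center hπ.central ?_) (Lift.div_mem_center hπ.central ?_)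
    · rw [h1, h3, lev2_same hcd hzc.symm hzd.symm]
    · rw [h2, h3, lev2_move hzd.symm]
  have hk' : ⁅(L2 (T c d u))⁻¹, g⁆ = L4 (T c z (-u * t)) := by
    rw [← map_inv, hnegT, hg, ← T_bracket hzc.symm hcd hzd.symm, map_commutatorElement]
    refine Lift.comm_congr (Lift.div_mem_center hπ.central ?_) (Lift.div_mem_center hπ.central ?_)
    · rw [h2, h4', lev2_same hcd hzc.symm hzd.symm]
      rfl
    · rw [h1, h4', lev2_move hzd.symm, hfi]
      show _ = flip m F d * (flip m F d * lev m F (T z d (-t)) * (flip m F d)⁻¹) * flip m F d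
      rw [show flip m F d * (flip m F d * lev m F (T z d (-t)) * (flip m F d)⁻¹) * flip m F d =
        (flip m F d * flip m F d) * lev m F (T z d (-t)) * ((flip m F d)⁻¹ * flip m F d) by group,
        inv_mul_cancel, mul_one]
      nth_rewrite 1 [← hfi]
      rw [inv_mul_cancel, one_mul]
  have hkk : ⁅(L1 (T c d t))⁻¹, a⁆ = ⁅(L2 (T c d u))⁻¹, g⁆ := by
    rw [hk, hk', h34, show -t * u = -u * t by ring]
  obtain ⟨r, hr⟩ : ∃ r, r = L1 (T c d t) := ⟨_, rfl⟩
  obtain ⟨r', hr'⟩ : ∃ r', r' = L2 (T c d u) := ⟨_, rfl⟩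
  rw [← hr] at eg hkk ⊢
  rw [← hr'] at ea hkk ⊢
  obtain ⟨k, hk₀⟩ : ∃ k, k = ⁅r⁻¹, a⁆ := ⟨_, rfl⟩
  have er : a * r * a⁻¹ = r * k := by rw [hk₀, commutatorElement_def]; group
  have er' : g * r' * g⁻¹ = r' * k := by rw [hk₀, hkk, commutatorElement_def]; group
  have l1 : a * g * x * (a * g)⁻¹ = x * r' * r * k := by
    rw [show a * g * x * (a * g)⁻¹ = a * (g * x * g⁻¹) * a⁻¹ by group, eg,
      show a * (x * r) * a⁻¹ = (a * x * a⁻¹) * (a * r * a⁻¹) by group, ea, er]
    group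
  have l2 : g * a * x * (g * a)⁻¹ = x * r * r' * k := by
    rw [show g * a * x * (g * a)⁻¹ = g * (a * x * a⁻¹) * g⁻¹ by group, ea,
      show g * (x * r') * g⁻¹ = (g * x * g⁻¹) * (g * r' * g⁻¹) by group, eg, er']
    group
  have hswap : a * g * x * (a * g)⁻¹ = g * a * x * (g * a)⁻¹ := by
    obtain ⟨z', hz', he⟩ : ∃ z', (∀ y, z' * y = y * z') ∧ a * g = z' * (g * a) :=
      ⟨⁅a, g⁆, fun y => (Subgroup.mem_center_iff.1 hag y).symm, by rw [commutatorElement_def]; group⟩
    rw [he, show z' * (g * a) * x * (z' * (g * a))⁻¹ = z' * (g * a * x * (g * a)⁻¹) * z'⁻¹ by group,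
      hz', mul_inv_cancel_right]
  rw [l1, l2] at hswap
  show r * r' = r' * r
  simp only [mul_assoc] at hswap
  have h' := mul_left_cancel hswap
  simp only [← mul_assoc] at h'
  exact (mul_right_cancel h').symm

theorem mid (hπ : Over π) {c : Fin m} (hcd : c ≠ d) (t u : F) :
    Commute (L1 (T c d t)) (L2 (T c d u)) ∧ Commute (L1 (T c d t)) (L2 (T d c u)) ∧
      Commute (L1 (T d c t)) (L2 (T c d u)) ∧ Commute (L1 (T d c t)) (L2 (T d c u)) := by
  have hm := wS_monomial hcd (one_ne_zero (α := F))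
  obtain ⟨W, hW⟩ : ∃ W, W = wS c d (1 : F) := ⟨_, rfl⟩
  obtain ⟨s, hs0, hs⟩ : ∃ s : F, s ≠ 0 ∧ ∀ t, W * T c d t * W⁻¹ = T d c (s * t) := by
    refine ⟨_, div_ne_zero (hm.1 c) (hm.1 d), fun t => ?_⟩
    rw [hW, hm.conj hcd, Equiv.swap_apply_left, Equiv.swap_apply_right]
  have hT : ∀ v : F, W * T c d (s⁻¹ * v) * W⁻¹ = T d c v := fun v => by
    rw [hs, ← mul_assoc, mul_inv_cancel₀ hs0, one_mul]
  have cj1 : ∀ v, Commute (π (L1 W)) (π (L2 (T c d v))) ∧ Commute (π (L1 W)) (π (L2 (T d c v))) := fun v => by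
    obtain ⟨a1, a2, -, -⟩ := lev_commute (F := F) hcd 1 v
    obtain ⟨-, -, a3, a4⟩ := lev_commute (F := F) hcd (-(1 : F)⁻¹) v
    rw [h1, h2, h2, hW, wS, map_mul, map_mul]
    exact ⟨(a1.mul_left a3).mul_left a1, (a2.mul_left a4).mul_left a2⟩
  have cj2 : ∀ v, Commute (π (L2 W)) (π (L1 (T c d v))) ∧ Commute (π (L2 W)) (π (L1 (T d c v))) := fun v => by
    obtain ⟨a1, -, a3, -⟩ := lev_commute (F := F) hcd v 1
    obtain ⟨-, a2, -, a4⟩ := lev_commute (F := F) hcd v (-(1 : F)⁻¹)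
    rw [h1, h2, h1, hW, wS, map_mul, map_mul]
    exact ⟨(a1.symm.mul_left a2.symm).mul_left a1.symm, (a3.symm.mul_left a4.symm).mul_left a3.symm⟩
  have move : ∀ {X Y w : E}, Commute X Y → Commute (π w) (π Y) → Commute (w * X * w⁻¹) Y := by
    intro X Y w hXY hwY
    refine Lift.commute_congr hπ.central (y' := w * Y * w⁻¹) ?_ ((Commute.conj_iff w).2 hXY)
    rw [map_mul, map_mul, map_inv, hwY.eq, mul_inv_cancel_right]
  have p1 := fun t u => mid_first h1 h2 hπ hcd t u
  have p3 : ∀ t u, Commute (L1 (T d c t)) (L2 (T c d u)) := fun t u => by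
    rw [← hT t, map_mul, map_mul, map_inv]
    exact move (p1 _ u) (cj1 u).1
  have p2 : ∀ t u, Commute (L1 (T c d t)) (L2 (T d c u)) := fun t u => by
    rw [← hT u, map_mul, map_mul, map_inv]
    exact (move (p1 t _).symm (cj2 t).1).symm
  have p4 : ∀ t u, Commute (L1 (T d c t)) (L2 (T d c u)) := fun t u => by
    rw [← hT u, map_mul, map_mul, map_inv]
    exact (move (p3 t _).symm (cj2 t).2).symm
  exact ⟨p1 t u, p2 t u, p3 t u, p4 t u⟩

omit h1 h2 in
/-- The twin in the extension. -/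
theorem exists_twin (hπ : Over π) : ∃ P : Twin m F E, P.d.val + 1 = m ∧ P.c.val + 2 = m ∧
    (∀ A, π (P.F1 A) = lev m F A) ∧
    ∀ A, π (P.F2 A) = flip m F P.d * lev m F A * (flip m F P.d)⁻¹ := by
  have hbig := hπ.big
  obtain ⟨d, hd⟩ : ∃ d : Fin m, d.val + 1 = m := ⟨⟨m - 1, by omega⟩, by simp only; omega⟩
  obtain ⟨c, hc⟩ : ∃ c : Fin m, c.val + 2 = m := ⟨⟨m - 2, by omega⟩, by simp only; omega⟩
  obtain ⟨L1, h1⟩ := exists_lift hπ (lev m F)
  obtain ⟨L2, h2⟩ := exists_lift hπ (lev2 d)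
  have hcd : c ≠ d := fun e => by subst e; omega
  exact ⟨{ F1 := L1, F2 := L2, d := d, c := c, hcd := hcd
           top := fun i j hi hj t => top h1 h2 hπ hi hj t
           mid := fun t u => mid h1 h2 hπ hcd t u }, hd, hc, h1, h2⟩

end Cfsg.Agent.PlusMult
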