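import Mathlib

/-!
Two actions of a symmetric group agreeing on a point stabiliser, with commuting transpositions at one further
point, generate signed permutations of even sign.
-/

set_option autoImplicit false

namespace Cfsg.Agent.PlusMult.Signed

variable {m : ℕ} {Q : Type*} [Group Q] (α β : Equiv.Perm (Fin m) →* Q) (d : Fin m)

/-- The double change of sign. -/
def eps (i : Fin m) : Q := α (Equiv.swap i d) * β (Equiv.swap i d)

/-- The group of changes of sign. -/
def Eg : Subgroup Q := Subgroup.closure (Set.range (eps α β d))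

/-- The hypotheses. -/
structure Hyp : Prop where
  fix : ∀ σ : Equiv.Perm (Fin m), σ d = d → α σ = β σ
  comm : ∀ i, i ≠ d → Commute (α (Equiv.swap i d)) (β (Equiv.swap i d))

variable {α β d}

theorem sq (f : Equiv.Perm (Fin m) →* Q) (i j : Fin m) :
    f (Equiv.swap i j) * f (Equiv.swap i j) = 1 := by
  rw [← map_mul, Equiv.swap_mul_self, map_one]

theorem comm' (h : Hyp α β d) (i : Fin m) :
    Commute (α (Equiv.swap i d)) (β (Equiv.swap i d)) := by
  by_cases hi : i = d
  · subst hi; rw [Equiv.swap_self, ← Equiv.Perm.one_def, map_one, map_one]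
  · exact h.comm i hi

theorem eps_self : eps α β d d = 1 := by
  rw [eps, Equiv.swap_self, ← Equiv.Perm.one_def, map_one, map_one, one_mul]

theorem eps_mem (i : Fin m) : eps α β d i ∈ Eg α β d := Subgroup.subset_closure ⟨i, rfl⟩

theorem eps_sq (h : Hyp α β d) (i : Fin m) : eps α β d i * eps α β d i = 1 := by
  rw [eps, mul_assoc, ← mul_assoc (β _), ← (comm' h i).eq, mul_assoc (α _) (β _), sq, mul_one, sq]

theorem conj_fix (h : Hyp α β d) {σ : Equiv.Perm (Fin m)} (hσ : σ d = d) (i : Fin m) :
    α σ * eps α β d i * (α σ)⁻¹ = eps α β d (σ i) := by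
  have e : ∀ f : Equiv.Perm (Fin m) →* Q,
      f σ * f (Equiv.swap i d) * (f σ)⁻¹ = f (Equiv.swap (σ i) d) := fun f => by
    rw [← map_inv, ← map_mul, ← map_mul]
    congr 1
    conv_rhs => rw [← hσ]
    rw [Equiv.swap_apply_apply]
  rw [eps, eps, ← e α, ← e β, h.fix σ hσ]
  group

/-- The braid data of two indices. -/
theorem braid {f : Equiv.Perm (Fin m) →* Q} {i j : Fin m} (hij : i ≠ j) (hi : i ≠ d) (hj : j ≠ d) :
    f (Equiv.swap i j) * f (Equiv.swap i d) * f (Equiv.swap i j) = f (Equiv.swap j d) ∧
      f (Equiv.swap i d) * f (Equiv.swap i j) * f (Equiv.swap i d) = f (Equiv.swap j d) := by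
  constructor
  · rw [← map_mul, ← map_mul]
    congr 1
    have := Equiv.swap_apply_apply (Equiv.swap i j) i d
    rw [Equiv.swap_apply_left, Equiv.swap_apply_of_ne_of_ne hi.symm hj.symm, Equiv.swap_inv] at this
    exact this.symm
  · rw [← map_mul, ← map_mul]
    congr 1
    have := Equiv.swap_apply_apply (Equiv.swap i d) i j
    rw [Equiv.swap_apply_left, Equiv.swap_apply_of_ne_of_ne hij.symm hj, Equiv.swap_inv,
      Equiv.swap_comm d j] at this
    exact this.symm

theorem eps_comm_conj (h : Hyp α β d) {i j : Fin m} (hij : i ≠ j) (hi : i ≠ d) (hj : j ≠ d) :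
    Commute (eps α β d i) (eps α β d j) ∧
      α (Equiv.swap i d) * eps α β d j * α (Equiv.swap i d) = eps α β d i * eps α β d j := by
  have hr : α (Equiv.swap i j) = β (Equiv.swap i j) :=
    h.fix _ (Equiv.swap_apply_of_ne_of_ne hi.symm hj.symm)
  obtain ⟨b1, b2⟩ := braid (f := α) (d := d) hij hi hj
  obtain ⟨c1, c2⟩ := braid (f := β) (d := d) hij hi hj
  rw [← hr] at c1 c2
  have hc := (h.comm i hi).eq
  have ra := sq α i j
  have sa := sq α i d
  have sb := sq β i d
  unfold Commute SemiconjBy eps
  rw [← b1, ← c1]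
  generalize α (Equiv.swap i j) = r at *
  generalize α (Equiv.swap i d) = a at *
  generalize β (Equiv.swap i d) = b at *
  have e1 : a * r * a = r * a * r := b2.trans b1.symm
  have e2 : b * r * b = r * b * r := c2.trans c1.symm
  have rr : ∀ x y : Q, x * r * (r * y) = x * y := fun x y => by rw [mul_assoc, ← mul_assoc r r, ra, one_mul]
  have eX : r * a * r * (r * b * r) = r * a * b * r := by
    rw [mul_assoc r b r, rr, ← mul_assoc]
  rw [eX]
  constructor
  · calc a * b * (r * a * b * r)
        = a * b * ((r * a * r) * (r * b * r)) := by rw [eX]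
      _ = a * b * ((a * r * a) * (b * r * b)) := by rw [e1, e2]
      _ = (a * b * a) * r * (a * b) * r * b := by group
      _ = b * r * (b * a) * r * b := by rw [hc, mul_assoc b a a, sa, mul_one]
      _ = (b * r * b) * (a * r * b) := by group
      _ = (r * b * r) * (a * r * b) := by rw [e2]
      _ = r * b * (r * a * r) * b := by group
      _ = r * b * (a * r * a) * b := by rw [e1]
      _ = r * (b * a) * r * (a * b) := by group
      _ = r * a * b * r * (a * b) := by rw [← hc]; group
  · calc a * (r * a * b * r) * a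
        = a * r * (a * b) * r * a := by group
      _ = a * r * (b * a) * r * a := by rw [hc]
      _ = a * r * b * (a * r * a) := by group
      _ = a * r * b * (r * a * r) := by rw [e1]
      _ = a * (r * b * r) * (a * r) := by group
      _ = a * (b * r * b) * (a * r) := by rw [e2]
      _ = a * b * r * (b * a) * r := by group
      _ = a * b * (r * a * b * r) := by rw [← hc]; group

theorem eps_commute (h : Hyp α β d) (i j : Fin m) : Commute (eps α β d i) (eps α β d j) := by
  by_cases hij : i = j
  · subst hij; exact Commute.refl _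
  by_cases hi : i = d
  · subst hi; rw [eps_self]; exact Commute.one_left _
  by_cases hj : j = d
  · subst hj; rw [eps_self]; exact Commute.one_right _
  exact (eps_comm_conj h hij hi hj).1

theorem Eg_le_comap (h : Hyp α β d) (σ : Equiv.Perm (Fin m)) :
    ∀ e ∈ Eg α β d, α σ * e * (α σ)⁻¹ ∈ Eg α β d := by
  induction σ using Equiv.Perm.swap_induction_on with
  | one => intro e he; simpa using he
  | swap_mul σ x y hxy ih =>
    intro e he
    rw [map_mul, _root_.mul_inv_rev, show α (Equiv.swap x y) * α σ * e * ((α σ)⁻¹ * (α (Equiv.swap x y))⁻¹) =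
      α (Equiv.swap x y) * (α σ * e * (α σ)⁻¹) * (α (Equiv.swap x y))⁻¹ by group]
    have key : ∀ x y : Fin m, x ≠ y → ∀ i,
        α (Equiv.swap x y) * eps α β d i * (α (Equiv.swap x y))⁻¹ ∈ Eg α β d := by
      intro x y hxy i
      by_cases hd : x = d ∨ y = d
      · obtain ⟨z, hz, e'⟩ : ∃ z, z ≠ d ∧ Equiv.swap x y = Equiv.swap z d := by
          rcases hd with rfl | rfl
          · exact ⟨y, hxy.symm, Equiv.swap_comm _ _⟩
          · exact ⟨x, hxy, rfl⟩
        rw [e', ← map_inv, Equiv.swap_inv]
        by_cases hiz : i = z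
        · subst hiz
          rw [eps, ← mul_assoc, sq, one_mul, ← (comm' h i).eq]
          exact eps_mem i
        by_cases hid : i = d
        · subst hid; rw [eps_self, mul_one, sq]; exact one_mem _
        rw [(eps_comm_conj h (Ne.symm hiz) hz hid).2]
        exact mul_mem (eps_mem _) (eps_mem _)
      · push Not at hd
        rw [conj_fix h (Equiv.swap_apply_of_ne_of_ne hd.1.symm hd.2.symm)]
        exact eps_mem _
    have h' : Eg α β d ≤ (Eg α β d).comap (MulAut.conj (α (Equiv.swap x y))).toMonoidHom := by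
      rw [Eg, Subgroup.closure_le]
      rintro _ ⟨i, rfl⟩
      exact key x y hxy i
    exact h' (ih e he)

/-- Normal form. -/
theorem normal_form (h : Hyp α β d) {x : Q} (hx : x ∈ α.range ⊔ β.range) :
    ∃ σ, ∃ e ∈ Eg α β d, x = α σ * e := by
  let S : Subgroup Q :=
    { carrier := {x | ∃ σ, ∃ e ∈ Eg α β d, x = α σ * e}
      one_mem' := ⟨1, 1, one_mem _, by simp⟩
      mul_mem' := by
        rintro _ _ ⟨σ, e, he, rfl⟩ ⟨τ, e', he', rfl⟩
        refine ⟨σ * τ, α τ⁻¹ * e * (α τ⁻¹)⁻¹ * e', mul_mem (Eg_le_comap h _ e he) he', ?_⟩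
        rw [map_mul, map_inv]; group
      inv_mem' := by
        rintro _ ⟨σ, e, he, rfl⟩
        refine ⟨σ⁻¹, α σ * e⁻¹ * (α σ)⁻¹, Eg_le_comap h _ _ (inv_mem he), ?_⟩
        rw [map_inv]; group }
  refine (sup_le ?_ ?_ : α.range ⊔ β.range ≤ S) hx
  · rintro _ ⟨σ, rfl⟩; exact ⟨σ, 1, one_mem _, (mul_one _).symm⟩
  · rintro _ ⟨σ, rfl⟩
    induction σ using Equiv.Perm.swap_induction_on with
    | one => rw [map_one]; exact one_mem S
    | swap_mul σ x y hxy ih =>
      rw [map_mul]
      refine S.mul_mem ?_ ih
      by_cases hd : x = d ∨ y = d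
      · obtain ⟨z, e'⟩ : ∃ z, Equiv.swap x y = Equiv.swap z d := by
          rcases hd with rfl | rfl
          · exact ⟨y, Equiv.swap_comm _ _⟩
          · exact ⟨x, rfl⟩
        rw [e']
        refine ⟨Equiv.swap z d, eps α β d z, eps_mem z, ?_⟩
        rw [eps, ← mul_assoc, sq, one_mul]
      · push Not at hd
        rw [← h.fix _ (Equiv.swap_apply_of_ne_of_ne hd.1.symm hd.2.symm)]
        exact ⟨_, 1, one_mem _, (mul_one _).symm⟩

/-- Detection by the signed permutations. -/
theorem eq_one (h : Hyp α β d) (Has : Q → Equiv.Perm (Fin m ⊕ Fin m) → Prop)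
    (hone : Has 1 1) (hmul : ∀ x y π π', Has x π → Has y π' → Has (x * y) (π * π'))
    (huniq : ∀ x π π', Has x π → Has x π' → π = π')
    (ha : ∀ σ, Has (α σ) (Equiv.sumCongr σ σ))
    (hb : ∀ i, i ≠ d → ∃ π : Equiv.Perm (Fin m ⊕ Fin m), Has (eps α β d i) π ∧
      π (Sum.inl i) = Sum.inr i ∧ π (Sum.inr i) = Sum.inl i ∧
      ∀ j, j ≠ i → j ≠ d → π (Sum.inl j) = Sum.inl j ∧ π (Sum.inr j) = Sum.inr j)
    {x : Q} (hx : x ∈ α.range ⊔ β.range) (hx1 : Has x 1) : x = 1 := by
  classical
  have main : ∀ S : Finset (Fin m), ∀ e ∈ Subgroup.closure (eps α β d '' (S : Set (Fin m))),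
      ∃ π : Equiv.Perm (Fin m ⊕ Fin m), Has e π ∧
        (∀ j, j ≠ d → (π (Sum.inl j) = Sum.inl j ∧ π (Sum.inr j) = Sum.inr j) ∨
          (π (Sum.inl j) = Sum.inr j ∧ π (Sum.inr j) = Sum.inl j)) ∧
        (∀ j, j ∉ S → j ≠ d → π (Sum.inl j) = Sum.inl j) ∧ (π = 1 → e = 1) := by
    intro S
    induction S using Finset.induction with
    | empty =>
      intro e he
      simp only [Finset.coe_empty, Set.image_empty, Subgroup.closure_empty, Subgroup.mem_bot] at he
      subst he
      exact ⟨1, hone, fun j _ => Or.inl ⟨rfl, rfl⟩, fun _ _ _ => rfl, fun _ => rfl⟩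
    | insert i S hiS ih =>
      intro e he
      by_cases hid : i = d
      · subst hid
        have : Subgroup.closure (eps α β i '' ((insert i S : Finset (Fin m)) : Set (Fin m))) ≤
            Subgroup.closure (eps α β i '' (S : Set (Fin m))) := by
          rw [Subgroup.closure_le, Finset.coe_insert, Set.image_insert_eq, eps_self]
          exact Set.insert_subset (one_mem _) Subgroup.subset_closure
        obtain ⟨π, h1, h2, h3, h4⟩ := ih e (this he)
        exact ⟨π, h1, h2, fun j hj => h3 j fun hjS => hj (Finset.mem_insert_of_mem hjS), h4⟩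
      obtain ⟨C, hC⟩ : ∃ C, C = Subgroup.closure (eps α β d '' (S : Set (Fin m))) := ⟨_, rfl⟩
      rw [← hC] at ih
      have hcen : ∀ y ∈ C, Commute (eps α β d i) y := fun y hy => by
        rw [hC] at hy
        induction hy using Subgroup.closure_induction with
        | mem y hy => obtain ⟨j, -, rfl⟩ := hy; exact eps_commute h i j
        | one => exact Commute.one_right _
        | mul _ _ _ _ a b => exact a.mul_right b
        | inv _ _ a => exact a.inv_right
      have hsplit : e ∈ C ∨ eps α β d i * e ∈ C := by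
        induction he using Subgroup.closure_induction with
        | mem y hy =>
          obtain ⟨j, hj, rfl⟩ := hy
          rcases Finset.mem_insert.1 hj with rfl | hj
          · right; rw [eps_sq h]; exact one_mem _
          · left; rw [hC]; exact Subgroup.subset_closure ⟨j, hj, rfl⟩
        | one => exact Or.inl (one_mem _)
        | mul y z _ _ hy hz =>
          rcases hy with hy | hy <;> rcases hz with hz | hz
          · exact Or.inl (mul_mem hy hz)
          · refine Or.inr ?_
            rw [← mul_assoc, (hcen y hy).eq, mul_assoc]; exact mul_mem hy hz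
          · refine Or.inr ?_
            rw [← mul_assoc]; exact mul_mem hy hz
          · refine Or.inl ?_
            have := mul_mem hy hz
            rwa [show eps α β d i * y * (eps α β d i * z) =
              eps α β d i * (y * (eps α β d i)) * z by group,
              show y * eps α β d i = eps α β d i * (eps α β d i * y * eps α β d i) by
                rw [← mul_assoc, ← mul_assoc, eps_sq h, one_mul],
              (hcen _ hy).symm.eq, ← mul_assoc (eps α β d i), eps_sq h, one_mul, ← mul_assoc,
              eps_sq h, one_mul] at this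
        | inv y _ hy =>
          rcases hy with hy | hy
          · exact Or.inl (inv_mem hy)
          · refine Or.inr ?_
            have hii : (eps α β d i)⁻¹ = eps α β d i := inv_eq_of_mul_eq_one_right (eps_sq h i)
            have hyi := inv_mem hy
            rw [show eps α β d i * y⁻¹ = eps α β d i * ((eps α β d i * y)⁻¹ * eps α β d i) by group,
              ← (hcen _ hyi).eq, ← mul_assoc, eps_sq h, one_mul]
            exact hyi
      rcases hsplit with he' | he'
      · obtain ⟨π, h1, h2, h3, h4⟩ := ih e he'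
        exact ⟨π, h1, h2, fun j hj => h3 j fun hjS => hj (Finset.mem_insert_of_mem hjS), h4⟩
      · obtain ⟨π, h1, h2, h3, -⟩ := ih _ he'
        obtain ⟨ρ, r1, r2, r3, r4⟩ := hb i hid
        have he2 : e = eps α β d i * (eps α β d i * e) := by rw [← mul_assoc, eps_sq h, one_mul]
        refine ⟨ρ * π, he2 ▸ hmul _ _ _ _ r1 h1, fun j hj => ?_, fun j hj hjd => ?_, fun hπ => ?_⟩
        · by_cases hji : j = i
          · subst hji
            rcases h2 j hj with ⟨a, b⟩ | ⟨a, b⟩
            · exact Or.inr ⟨by simp [a, r2], by simp [b, r3]⟩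
            · exact Or.inl ⟨by simp [a, r3], by simp [b, r2]⟩
          · obtain ⟨u, v⟩ := r4 j hji hj
            rcases h2 j hj with ⟨a, b⟩ | ⟨a, b⟩
            · exact Or.inl ⟨by simp [a, u], by simp [b, v]⟩
            · exact Or.inr ⟨by simp [a, v], by simp [b, u]⟩
        · have hji : j ≠ i := fun e => hj (e ▸ Finset.mem_insert_self _ _)
          simp [h3 j (fun hjS => hj (Finset.mem_insert_of_mem hjS)) hjd, (r4 j hji hjd).1]
        · have := congrArg (fun f : Equiv.Perm (Fin m ⊕ Fin m) => f (Sum.inl i)) hπ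
          simp [h3 i hiS hid, r2] at this
  obtain ⟨σ, e, he, rfl⟩ := normal_form h hx
  obtain ⟨π, h1, h2, -, h4⟩ := main Finset.univ e (by rwa [Finset.coe_univ, Set.image_univ])
  have hπ := huniq _ _ _ (hmul _ _ _ _ (ha σ) h1) hx1
  have hσ : ∀ j, j ≠ d → σ j = j := fun j hj => by
    have := congrArg (fun f : Equiv.Perm (Fin m ⊕ Fin m) => f (Sum.inl j)) hπ
    rcases h2 j hj with ⟨a, -⟩ | ⟨a, -⟩
    · simpa [a] using this
    · simp [a] at this
  have hσ1 : σ = 1 := Equiv.ext fun j => by
    by_cases hj : j = d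
    · by_contra hne
      have h' : σ (σ j) = σ j := hσ (σ j) fun e => hne (e.trans hj.symm)
      exact hne (σ.injective h')
    · exact hσ j hj
  subst hσ1
  rw [map_one, one_mul]
  refine h4 ?_
  have : (Equiv.sumCongr (1 : Equiv.Perm (Fin m)) (1 : Equiv.Perm (Fin m)) : Equiv.Perm (Fin m ⊕ Fin m)) = 1 :=
    Equiv.sumCongr_refl
  rwa [this, one_mul] at hπ

end Cfsg.Agent.PlusMult.Signed
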