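import Cfsg.Agent.Lib.PlusMult.Mid

/-!
The torus of a twin lying over the plus type orthogonal group, and its elements over the centre.
-/

set_option autoImplicit false
set_option linter.unusedSectionVars false

namespace Cfsg.Agent.PlusMult

open Matrix Cfsg.Agent.SimpleFacts.SLnRootLifts Cfsg.Agent.SimpleFacts.SLnSystem
  Cfsg.Agent.SimpleFacts.SLnCosets Cfsg.Agent.SteinbergSL Cfsg.Agent.CurtisTitsD
  Cfsg.Agent.CurtisTitsD.Bruhat Cfsg.Agent.Forms Cfsg.Agent.Forms.Reflections Cfsg.Agent.Forms.PlusStd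
  Cfsg.Agent.Classical.Orth Cfsg.Agent.Chevalley.Natural

universe u v

variable {m : ℕ} {F : Type u} [Field F] [Finite F]

local notation "Ix" => (Fin m ⊕ Fin m)

/-- The product of the entries. -/
def prodHom (m : ℕ) (F : Type u) [Field F] : (Fin m → Fˣ) →* Fˣ where
  toFun e := ∏ i, e i
  map_one' := by simp
  map_mul' e e' := by simp [Finset.prod_mul_distrib]

/-- The diagonal entries of determinant one. -/
abbrev Tl (m : ℕ) (F : Type u) [Field F] := (prodHom m F).ker

theorem Tl_prod (e : Tl m F) : ∏ i, e.1 i = 1 := e.2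

theorem Tl_prod' (e : Tl m F) : ∏ i, (e.1 i : F) = 1 := by
  rw [← Units.coe_prod, Tl_prod, Units.val_one]

/-- The diagonal embedding. -/
noncomputable def dg : Tl m F →* SpecialLinearGroup (Fin m) F where
  toFun e := SimpleFacts.SLnRootLifts.diag (fun i => (e.1 i : F)) (Tl_prod' e)
  map_one' := Subtype.ext (by simp [SimpleFacts.SLnRootLifts.diag])
  map_mul' e e' := Subtype.ext (by
    show Matrix.diagonal _ = Matrix.diagonal _ * Matrix.diagonal _
    rw [Matrix.diagonal_mul_diagonal]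
    simp)

theorem dg_apply (e : Tl m F) (i j : Fin m) :
    (dg e : Matrix (Fin m) (Fin m) F) i j = if i = j then (e.1 j : F) else 0 := by
  show Matrix.diagonal _ i j = _
  rw [Matrix.diagonal_apply]
  split_ifs with h <;> simp [h]

/-- The coroot. -/
def hp (i j : Fin m) (a : Fˣ) : Tl m F :=
  ⟨Pi.mulSingle i a * Pi.mulSingle j a⁻¹, by
    show ∏ k, (Pi.mulSingle i a * Pi.mulSingle j a⁻¹ : Fin m → Fˣ) k = 1
    simp [Finset.prod_mul_distrib]⟩

theorem hp_fst {i j : Fin m} (h : i ≠ j) (a : Fˣ) : (hp i j a).1 i = a := by simp [hp, h]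

theorem hp_snd {i j : Fin m} (h : i ≠ j) (a : Fˣ) : (hp i j a).1 j = a⁻¹ := by simp [hp, h.symm]

theorem hp_other {i j k : Fin m} (hi : k ≠ i) (hj : k ≠ j) (a : Fˣ) : (hp i j a).1 k = 1 := by
  simp [hp, hi, hj]

theorem hp_self (i : Fin m) (a : Fˣ) : hp i i a = 1 :=
  Subtype.ext (by simp [hp, ← Pi.mulSingle_mul])

theorem hp_mul (i j : Fin m) (a b : Fˣ) : hp i j (a * b) = hp i j a * hp i j b := by
  refine Subtype.ext ?_
  show (Pi.mulSingle i (a * b) * Pi.mulSingle j (a * b)⁻¹ : Fin m → Fˣ) =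
    (Pi.mulSingle i a * Pi.mulSingle j a⁻¹ : Fin m → Fˣ) * (Pi.mulSingle i b * Pi.mulSingle j b⁻¹)
  funext k
  simp only [Pi.mul_apply, Pi.mulSingle_apply]
  split_ifs <;> simp [mul_assoc, mul_comm]

theorem hp_one (i j : Fin m) : hp i j (1 : Fˣ) = 1 := Subtype.ext (by simp [hp])

theorem dg_hp {i j : Fin m} (h : i ≠ j) (a : Fˣ) :
    dg (hp i j a) = wS i j (a : F) * wS i j (-1) := by
  refine monomial_ext (diag_monomial _ (Tl_prod' (hp i j a)))
    (h_monomial (Chain.idSystem (F := F) (N := m)) h (Units.ne_zero a)) fun k => ?_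
  by_cases k1 : k = i
  · subst k1; simp [hp_fst h]
  by_cases k2 : k = j
  · subst k2; simp [hp_snd h, h.symm]
  · simp [hp_other k1 k2, k1, k2]

theorem eq_prod_hp (e : Tl m F) (c : Fin m) : e = ∏ i, hp i c (e.1 i) := by
  refine Subtype.ext ?_
  rw [SubmonoidClass.coe_finsetProd]
  show e.1 = ∏ i, (Pi.mulSingle i (e.1 i) * Pi.mulSingle c (e.1 i)⁻¹ : Fin m → Fˣ)
  have hc : ∏ i, (Pi.mulSingle c (e.1 i)⁻¹ : Fin m → Fˣ) = 1 := by
    funext k
    by_cases hk : k = c
    · subst hk; simp [Finset.prod_apply, Tl_prod e]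
    · simp [Finset.prod_apply, hk]
  rw [Finset.prod_mul_distrib, Finset.univ_prod_mulSingle, hc, mul_one]

theorem split_hp {c d : Fin m} (h : c ≠ d) (e : Tl m F) :
    ∃ e', e'.1 d = 1 ∧ e = e' * hp c d (e.1 d)⁻¹ :=
  ⟨e * (hp c d (e.1 d)⁻¹)⁻¹, by simp [hp_snd h], by rw [inv_mul_cancel_right]⟩

/-- A diagonal matrix from its action. -/
theorem eq_dg {A : SpecialLinearGroup (Fin m) F} (h : MP (lev m F A) 1) : ∃ e, A = dg e := by
  have hA : ∀ i j, (A : Matrix (Fin m) (Fin m) F) i j =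
      if i = j then (A : Matrix (Fin m) (Fin m) F) j j else 0 := fun i j => by
    split_ifs with hij
    · rw [hij]
    obtain ⟨s, -, e⟩ := h.2 (Sum.inl j)
    have := congrFun e (Sum.inl i)
    rw [lev_inl] at this
    simpa [bv, hij] using this
  have hne : ∀ i, (A : Matrix (Fin m) (Fin m) F) i i ≠ 0 := fun i => by
    obtain ⟨s, hs, e⟩ := h.2 (Sum.inl i)
    have := congrFun e (Sum.inl i)
    rw [lev_inl] at this
    simpa [bv] using this.trans_ne (by simpa [bv] using hs)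
  have hd : (A : Matrix (Fin m) (Fin m) F) = Matrix.diagonal fun i => (A : Matrix (Fin m) (Fin m) F) i i :=
    Matrix.ext fun i j => by
      rw [hA i j, Matrix.diagonal_apply]
      split_ifs with hij <;> simp [hij]
  refine ⟨⟨fun i => Units.mk0 _ (hne i), ?_⟩, ?_⟩
  · show ∏ i, Units.mk0 _ (hne i) = 1
    refine Units.ext ?_
    have hdet := A.2
    rw [hd, Matrix.det_diagonal] at hdet
    simpa using hdet
  · exact Subtype.ext hd

theorem act_dg_inl (e : Tl m F) (i : Fin m) :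
    act (lev m F (dg e)) (bv (Sum.inl i)) = (e.1 i : F) • bv (Sum.inl i) := by
  funext z
  rw [lev_inl]
  rcases z with z | z
  · simp [dg_apply, bv, Pi.single_apply]
  · simp [bv]

theorem act_dg_inr (e : Tl m F) (i : Fin m) :
    act (lev m F (dg e)) (bv (Sum.inr i)) = ((e.1 i)⁻¹ : Fˣ).val • bv (Sum.inr i) := by
  funext z
  rw [lev_inr, ← map_inv]
  rcases z with z | z
  · simp [bv]
  · simp only [Sum.elim_inr, dg_apply]
    by_cases hz : z = i
    · subst hz; simp [bv]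
    · simp [bv, Ne.symm hz, hz]

theorem MP_dg (e : Tl m F) : MP (lev m F (dg e)) 1 := by
  refine ⟨fun _ => rfl, fun k => ?_⟩
  rcases k with k | k
  · exact ⟨_, Units.ne_zero _, act_dg_inl e k⟩
  · exact ⟨_, Units.ne_zero _, act_dg_inr e k⟩

variable {E : Type v} [Group E] (P : Twin m F E)

theorem F_eq {e : Tl m F} (he : e.1 P.d = 1) : P.F1 (dg e) = P.F2 (dg e) := by
  have h : ∀ f : SpecialLinearGroup (Fin m) F →* E,
      f (dg e) = f (dg (∏ i, hp i P.c (e.1 i))) := fun f => by rw [← eq_prod_hp e P.c]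
  rw [h, h]
  let S : Submonoid (Tl m F) := MonoidHom.eqLocusM (P.F1.comp dg) (P.F2.comp dg)
  refine S.prod_mem fun i _ => ?_
  show P.F1 (dg (hp i P.c (e.1 i))) = P.F2 (dg (hp i P.c (e.1 i)))
  by_cases hic : i = P.c
  · rw [hic, hp_self, map_one, map_one, map_one]
  by_cases hid : i = P.d
  · rw [hid, he, hp_one, map_one, map_one, map_one]
  rw [dg_hp hic, map_mul, map_mul, wS_top P hid P.hcd, wS_top P hid P.hcd]

theorem mid_wS (t u : F) : Commute (P.F1 (wS P.c P.d t)) (P.F2 (wS P.c P.d u)) := by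
  simp only [wS, map_mul]
  exact ((((P.mid t u).1.mul_right (P.mid t _).2.1).mul_right (P.mid t u).1).mul_left
    ((((P.mid _ u).2.2.1).mul_right (P.mid _ _).2.2.2).mul_right (P.mid _ u).2.2.1)).mul_left
    (((P.mid t u).1.mul_right (P.mid t _).2.1).mul_right (P.mid t u).1)

theorem mid_hp (a b : Fˣ) : Commute (P.F1 (dg (hp P.c P.d a))) (P.F2 (dg (hp P.c P.d b))) := by
  rw [dg_hp P.hcd, dg_hp P.hcd, map_mul, map_mul]
  exact ((mid_wS P _ _).mul_right (mid_wS P _ _)).mul_left ((mid_wS P _ _).mul_right (mid_wS P _ _))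

theorem dg_commute (e k : Tl m F) : Commute (P.F1 (dg e)) (P.F2 (dg k)) := by
  have ab : ∀ (f : SpecialLinearGroup (Fin m) F →* E) (a b : Tl m F), Commute (f (dg a)) (f (dg b)) :=
    fun f a b => (show Commute (dg a) (dg b) from
      (Commute.all a b).map dg).map f
  obtain ⟨e', he', e1⟩ := split_hp P.hcd e
  obtain ⟨k', hk', k1⟩ := split_hp P.hcd k
  rw [e1, k1, map_mul, map_mul, map_mul, map_mul, F_eq P he']
  refine Commute.mul_left ((ab _ _ _).mul_right (ab _ _ _)) (Commute.mul_right ?_ (mid_hp P _ _))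
  rw [← F_eq P hk']
  exact ab _ _ _

/-- The torus. -/
noncomputable def tor : Tl m F × Tl m F →* E :=
  MonoidHom.noncommCoprod (P.F1.comp dg) (P.F2.comp dg) (dg_commute P)

theorem tor_apply (e k : Tl m F) : tor P (e, k) = P.F1 (dg e) * P.F2 (dg k) := rfl

/-- The torus subgroup. -/
noncomputable def Tor : Subgroup E := (tor P).range

theorem F1_dg_mem (e : Tl m F) : P.F1 (dg e) ∈ Tor P :=
  ⟨(e, 1), by rw [tor_apply, map_one, map_one, mul_one]⟩

theorem F2_dg_mem (e : Tl m F) : P.F2 (dg e) ∈ Tor P :=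
  ⟨(1, e), by rw [tor_apply, map_one, map_one, one_mul]⟩

/-- The candidate kernel element. -/
noncomputable def zed (s : Fˣ) : E := P.F1 (dg (hp P.c P.d s)) * P.F2 (dg (hp P.c P.d s))

theorem zed_one : zed P (1 : Fˣ) = 1 := by simp [zed, hp_one]

variable {π : E →* Oplus m F} {P}
  (hp1 : ∀ A, π (P.F1 A) = lev m F A)
  (hp2 : ∀ A, π (P.F2 A) = flip m F P.d * lev m F A * (flip m F P.d)⁻¹)

include hp2 in
theorem act_F2 (k : Tl m F) (i : Fin m) :
    act (π (P.F2 (dg k))) (bv (Sum.inl i)) =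
      (if i = P.d then ((k.1 i)⁻¹ : Fˣ).val else (k.1 i : F)) • bv (Sum.inl i) := by
  obtain ⟨e1, e2, e3⟩ := (split m F).act_swp (a := Sum.inl P.d) rfl (one_ne_zero (α := F))
  have f1 : act (flip m F P.d) (bv (Sum.inl P.d)) = -(1 : F) • bv (Sum.inr P.d) := e1
  have f2 : act (flip m F P.d) (bv (Sum.inr P.d)) = -(1 : F)⁻¹ • bv (Sum.inl P.d) := e2
  rw [hp2, flip_inv, act_mul, act_mul]
  split_ifs with h
  · subst h
    simp only [f1, f2, map_smul, act_dg_inr]
    match_scalars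
    field_simp
  · have f3 : act (flip m F P.d) (bv (Sum.inl i)) = bv (Sum.inl i) := e3 _ (by simp [h]) (by simp)
    rw [f3, act_dg_inl, map_smul, f3]

include hp1 hp2 in
theorem act_tor (e k : Tl m F) (i : Fin m) :
    act (π (tor P (e, k))) (bv (Sum.inl i)) =
      (if i = P.d then (e.1 i * (k.1 i)⁻¹ : Fˣ).val else (e.1 i * k.1 i : Fˣ).val) • bv (Sum.inl i) := by
  rw [tor_apply, map_mul, act_mul, act_F2 hp2, hp1, map_smul, act_dg_inl, smul_smul]
  split_ifs <;> congr 1 <;> simp [mul_comm]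

include hp1 hp2 in
theorem MP_tor {x : E} (hx : x ∈ Tor P) : MP (π x) 1 := by
  obtain ⟨⟨e, k⟩, rfl⟩ := hx
  rw [tor_apply, map_mul, hp1, hp2, flip_inv]
  have h := (MP_dg e).mul (((flip_MP P.d).mul (MP_dg k)).mul (flip_MP P.d))
  rwa [mul_one, Equiv.swap_mul_self, one_mul] at h

theorem smul_bv_inj {a b : F} {i : Ix} (h : a • (bv i : Ix → F) = b • bv i) : a = b := by
  simpa [bv] using congrFun h i

include hp1 hp2 in
/-- The torus elements over the identity. -/
theorem tor_ker {e k : Tl m F} (h : π (tor P (e, k)) = 1) :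
    e.1 P.d * e.1 P.d = 1 ∧ tor P (e, k) = zed P (e.1 P.d) := by
  have hi : ∀ i, i ≠ P.d → e.1 i * k.1 i = 1 := fun i hi => by
    have := act_tor hp1 hp2 e k i
    rw [h, act_one, if_neg hi] at this
    exact Units.ext (smul_bv_inj (i := Sum.inl i) ((one_smul F _).trans this)).symm
  have hd : e.1 P.d = k.1 P.d := by
    have := act_tor hp1 hp2 e k P.d
    rw [h, act_one, if_pos rfl] at this
    have h' : e.1 P.d * (k.1 P.d)⁻¹ = 1 := Units.ext (smul_bv_inj (i := Sum.inl P.d) ((one_smul F _).trans this)).symm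
    exact mul_inv_eq_one.1 h'
  have hsq : e.1 P.d * k.1 P.d = 1 := by
    have : ∏ i, e.1 i * k.1 i = 1 := Tl_prod (e * k)
    rwa [Finset.prod_eq_single P.d (fun i _ hne => hi i hne) (by simp)] at this
  have hek : k = e⁻¹ := by
    refine eq_inv_of_mul_eq_one_right (Subtype.ext (funext fun i => ?_))
    by_cases hid : i = P.d
    · subst hid; exact hsq
    · exact hi i hid
  refine ⟨by rw [← hsq, ← hd], ?_⟩
  have hs : (e.1 P.d)⁻¹ = e.1 P.d := inv_eq_of_mul_eq_one_right (by rw [← hsq, ← hd])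
  obtain ⟨e', he', e1⟩ := split_hp P.hcd e
  rw [hs] at e1
  have hinv : (hp P.c P.d (e.1 P.d) : Tl m F)⁻¹ = hp P.c P.d (e.1 P.d) := by
    refine inv_eq_of_mul_eq_one_right ?_
    rw [← hp_mul, show e.1 P.d * e.1 P.d = 1 by rw [← hsq, ← hd], hp_one]
  have e2 : k = e'⁻¹ * hp P.c P.d (e.1 P.d) := by
    rw [hek]
    conv_lhs => rw [e1, mul_inv, hinv]
  obtain ⟨s, hs'⟩ : ∃ s, s = e.1 P.d := ⟨_, rfl⟩
  rw [← hs'] at e1 e2 ⊢
  have hsplit : tor P (e, k) = tor P (e', e'⁻¹) * tor P (hp P.c P.d s, hp P.c P.d s) := by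
    rw [← map_mul, Prod.mk_mul_mk, ← e1, ← e2]
  rw [hsplit, tor_apply, tor_apply, ← F_eq P (e := e'⁻¹) (by simp [he']), ← map_mul, ← map_mul,
    mul_inv_cancel, map_one, map_one, one_mul]
  rfl

include hp1 hp2 in
/-- The torus meets the kernel in at most two elements. -/
theorem tor_ker' {x : E} (hx : x ∈ Tor P) (h : π x = 1) : x = 1 ∨ x = zed P (-1 : Fˣ) := by
  obtain ⟨⟨e, k⟩, rfl⟩ := hx
  obtain ⟨h1, h2⟩ := tor_ker hp1 hp2 h
  rcases mul_self_eq_one_iff.1 (show (e.1 P.d : F) * e.1 P.d = 1 by rw [← Units.val_mul, h1, Units.val_one])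
    with h | h
  · exact Or.inl (by rw [h2, show e.1 P.d = 1 from Units.ext h, zed_one])
  · exact Or.inr (by rw [h2, show e.1 P.d = -1 from Units.ext (by simpa using h)])

include hp1 hp2 in
/-- The torus elements over the negation square into the kernel as computed from the rank. -/
theorem tor_neg {x : E} (hx : x ∈ Tor P)
    (h : ∀ i, act (π x) (bv (Sum.inl i)) = (-1 : F) • bv (Sum.inl i)) (h' : π (x * x) = 1) :
    ∃ a : Fˣ, a * a = (-1) ^ m ∧ x * x = zed P (a * a) := by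
  obtain ⟨⟨e, k⟩, rfl⟩ := hx
  have hi : ∀ i, i ≠ P.d → e.1 i * k.1 i = -1 := fun i hi => by
    have := act_tor hp1 hp2 e k i
    rw [h, if_neg hi] at this
    exact Units.ext (by simpa using (smul_bv_inj this).symm)
  have hd : k.1 P.d = -e.1 P.d := by
    have := act_tor hp1 hp2 e k P.d
    rw [h, if_pos rfl] at this
    have h' : e.1 P.d * (k.1 P.d)⁻¹ = -1 := Units.ext (by simpa using (smul_bv_inj this).symm)
    rw [mul_inv_eq_iff_eq_mul.1 h']; simp
  have hprod : ∏ i, e.1 i * k.1 i = 1 := Tl_prod (e * k)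
  rw [← Finset.mul_prod_erase _ _ (Finset.mem_univ P.d),
    Finset.prod_congr rfl (g := fun _ => (-1 : Fˣ)) (fun i hi' => hi i (Finset.ne_of_mem_erase hi')),
    Finset.prod_const, Finset.card_erase_of_mem (Finset.mem_univ _), Finset.card_univ, Fintype.card_fin]
    at hprod
  have hm : m = (m - 1) + 1 := by have := P.d.2; omega
  refine ⟨e.1 P.d, ?_, ?_⟩
  · rw [hd, mul_neg] at hprod
    rw [show (-1 : Fˣ) ^ m = (-1) ^ (m - 1 + 1) by rw [← hm], pow_succ, mul_neg_one]
    have h1 : e.1 P.d * e.1 P.d * (-1) ^ (m - 1) = -1 := by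
      rw [← neg_mul_neg]
      simpa [neg_mul] using congrArg Neg.neg hprod
    calc e.1 P.d * e.1 P.d = e.1 P.d * e.1 P.d * (-1) ^ (m - 1) * (-1) ^ (m - 1) := by
          rw [mul_assoc, ← pow_add, ← two_mul, pow_mul]; simp
      _ = -(-1) ^ (m - 1) := by rw [h1, neg_one_mul]
  · rw [← map_mul] at h' ⊢
    exact (tor_ker hp1 hp2 h').2

include hp1 hp2 in
/-- A torus element over the negation. -/
theorem exists_tor_neg (a : Fˣ) (ha : a * a = (-1) ^ m) :
    ∃ x ∈ Tor P, ∀ i, act (π x) (bv (Sum.inl i)) = (-1 : F) • bv (Sum.inl i) := by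
  refine ⟨tor P (hp P.c P.d a⁻¹, ⟨(fun _ => -1) * (hp P.c P.d a).1 * (fun i => if i = P.d then a * a else 1), ?_⟩),
    ⟨_, rfl⟩, fun i => ?_⟩
  · show ∏ i, ((fun _ => -1) * (hp P.c P.d a).1 * fun i => if i = P.d then a * a else 1 : Fin m → Fˣ) i = 1
    simp only [Pi.mul_apply, Finset.prod_mul_distrib, Finset.prod_const, Finset.card_univ, Fintype.card_fin,
      Tl_prod, mul_one, Finset.prod_ite_eq', Finset.mem_univ, if_true, ha, ← mul_pow]
    simp
  · rw [act_tor hp1 hp2]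
    congr 1
    by_cases h1 : i = P.d
    · subst h1
      simp [hp_snd P.hcd]
    by_cases h2 : i = P.c
    · subst h2
      simp [hp_fst P.hcd, h1]
    · simp [hp_other h2 h1, h1]

end Cfsg.Agent.PlusMult
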