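import Cfsg.Agent.Lib.PlusMult.Torus
import Cfsg.Agent.Lib.PlusMult.Signed

/-!
The Weyl elements of a twin over the plus type orthogonal group that are diagonal downstairs lie in the torus.
-/

set_option autoImplicit false
set_option linter.unusedSectionVars false

namespace Cfsg.Agent.PlusMult

open Matrix Cfsg.Agent.SimpleFacts.SLnRootLifts Cfsg.Agent.SimpleFacts.SLnSystem
  Cfsg.Agent.SimpleFacts.SLnCosets Cfsg.Agent.SteinbergSL Cfsg.Agent.CurtisTitsD
  Cfsg.Agent.CurtisTitsD.Bruhat Cfsg.Agent.Forms Cfsg.Agent.Forms.Reflections Cfsg.Agent.Forms.PlusStd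
  Cfsg.Agent.Classical.Orth Cfsg.Agent.Chevalley.Natural

universe u v

variable {m : ℕ} {F : Type u} [Field F] [Finite F] {E : Type v} [Group E]

local notation "Ix" => (Fin m ⊕ Fin m)

theorem MP_unique {g : Oplus m F} {ρ ρ' : Equiv.Perm Ix} (h : MP g ρ) (h' : MP g ρ') : ρ = ρ' := by
  refine Equiv.ext fun k => ?_
  obtain ⟨s, hs, e⟩ := h.2 k
  obtain ⟨s', -, e'⟩ := h'.2 k
  by_contra hne
  have := congrFun (e.symm.trans e') (ρ k)
  simp [bv, hne, hs] at this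

/-- The permutation of both halves. -/
def dbl (m : ℕ) : Equiv.Perm (Fin m) →* Equiv.Perm (Fin m ⊕ Fin m) where
  toFun σ := Equiv.sumCongr σ σ
  map_one' := Equiv.sumCongr_refl
  map_mul' σ τ := (Equiv.Perm.sumCongr_mul σ σ τ τ).symm

theorem dbl_inj {σ τ : Equiv.Perm (Fin m)} (h : dbl m σ = dbl m τ) : σ = τ := by
  refine Equiv.ext fun i => ?_
  have := congrArg (fun f : Equiv.Perm Ix => f (Sum.inl i)) h
  simpa [dbl] using this

theorem dbl_swap (x y : Fin m) : dbl m (Equiv.swap x y) = sw2 x y := rfl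

variable (P : Twin m F E)

/-- The monomial group of the first block. -/
def MS : Subgroup (SpecialLinearGroup (Fin m) F) :=
  Subgroup.closure {A | ∃ x y : Fin m, ∃ t : F, x ≠ y ∧ t ≠ 0 ∧
    ((x ≠ P.d ∧ y ≠ P.d) ∨ (x = P.c ∧ y = P.d)) ∧ A = wS x y t}

theorem wS_mem {x y : Fin m} {t : F} (h : x ≠ y) (ht : t ≠ 0)
    (hd : (x ≠ P.d ∧ y ≠ P.d) ∨ (x = P.c ∧ y = P.d)) : wS x y t ∈ MS P :=
  Subgroup.subset_closure ⟨x, y, t, h, ht, hd, rfl⟩

theorem exists_perm {A : SpecialLinearGroup (Fin m) F} (hA : A ∈ MS P) :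
    ∃ σ, MP (lev m F A) (dbl m σ) := by
  induction hA using Subgroup.closure_induction with
  | mem A h => obtain ⟨x, y, t, hxy, ht, -, rfl⟩ := h; exact ⟨_, lev_wS hxy ht⟩
  | one => exact ⟨1, by rw [map_one, map_one]; exact MP.one⟩
  | mul A B _ _ ha hb =>
    obtain ⟨σ, hσ⟩ := ha
    obtain ⟨τ, hτ⟩ := hb
    exact ⟨σ * τ, by rw [map_mul, map_mul]; exact hσ.mul hτ⟩
  | inv A _ ha =>
    obtain ⟨σ, hσ⟩ := ha
    exact ⟨σ⁻¹, by rw [map_inv, map_inv]; exact hσ.inv⟩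

/-- The permutation. -/
noncomputable def perm : MS P →* Equiv.Perm (Fin m) where
  toFun A := Classical.choose (exists_perm P A.2)
  map_one' := dbl_inj (MP_unique (Classical.choose_spec (exists_perm P (one_mem _))) (by
    rw [map_one, map_one]; exact MP.one))
  map_mul' A B := dbl_inj (MP_unique (Classical.choose_spec (exists_perm P (A * B).2)) (by
    rw [map_mul, show ((A * B : MS P) : SpecialLinearGroup (Fin m) F) = A.1 * B.1 from rfl, map_mul]
    exact (Classical.choose_spec (exists_perm P A.2)).mul (Classical.choose_spec (exists_perm P B.2))))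

theorem MP_perm (A : MS P) : MP (lev m F A.1) (dbl m (perm P A)) := Classical.choose_spec (exists_perm P A.2)

theorem perm_wS {x y : Fin m} {t : F} (h : x ≠ y) (ht : t ≠ 0)
    (hd : (x ≠ P.d ∧ y ≠ P.d) ∨ (x = P.c ∧ y = P.d)) :
    perm P ⟨wS x y t, wS_mem P h ht hd⟩ = Equiv.swap x y :=
  dbl_inj (MP_unique (MP_perm P ⟨_, wS_mem P h ht hd⟩) (lev_wS h ht))

theorem perm_surjective : Function.Surjective (perm P) := by
  intro σ
  suffices h : σ ∈ (perm P).range from h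
  induction σ using Equiv.Perm.swap_induction_on with
  | one => exact one_mem _
  | swap_mul σ x y hxy ih =>
    refine mul_mem ?_ ih
    have top : ∀ x y : Fin m, x ≠ y → x ≠ P.d → y ≠ P.d → Equiv.swap x y ∈ (perm P).range :=
      fun x y h hx hy => ⟨_, perm_wS P h (one_ne_zero (α := F)) (Or.inl ⟨hx, hy⟩)⟩
    have cd : Equiv.swap P.c P.d ∈ (perm P).range :=
      ⟨_, perm_wS P P.hcd (one_ne_zero (α := F)) (Or.inr ⟨rfl, rfl⟩)⟩
    have hd : ∀ x : Fin m, x ≠ P.d → Equiv.swap x P.d ∈ (perm P).range := fun x hx => by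
      by_cases hxc : x = P.c
      · rw [hxc]; exact cd
      have := Equiv.swap_apply_apply (Equiv.swap x P.c) P.c P.d
      rw [Equiv.swap_apply_right, Equiv.swap_apply_of_ne_of_ne (Ne.symm hx) P.hcd.symm] at this
      rw [this]
      exact mul_mem (mul_mem (top x P.c hxc hx P.hcd) cd) (inv_mem (top x P.c hxc hx P.hcd))
    by_cases hx : x = P.d
    · subst hx; rw [Equiv.swap_comm]; exact hd y hxy.symm
    by_cases hy : y = P.d
    · subst hy; exact hd x hx
    exact top x y hxy hx hy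

theorem conj_dg (A : MS P) (e : Tl m F) : ∃ e', A.1 * dg e * A.1⁻¹ = dg e' := by
  refine eq_dg ?_
  have h := ((MP_perm P A).mul (MP_dg e)).mul (MP_perm P A).inv
  rwa [mul_one, mul_inv_cancel, ← map_inv, ← map_mul, ← map_mul] at h

theorem wS_normal (f : Bool) {x y : Fin m} {t : F} (h : x ≠ y) (ht : t ≠ 0)
    (hd : (x ≠ P.d ∧ y ≠ P.d) ∨ (x = P.c ∧ y = P.d)) {z : E} (hz : z ∈ Tor P) :
    (bif f then P.F1 else P.F2) (wS x y t) * z * ((bif f then P.F1 else P.F2) (wS x y t))⁻¹ ∈ Tor P := by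
  obtain ⟨⟨e, k⟩, rfl⟩ := hz
  rw [tor_apply]
  obtain ⟨w, hw⟩ : ∃ w, w = (bif f then P.F1 else P.F2) (wS x y t) := ⟨_, rfl⟩
  rw [← hw, show w * (P.F1 (dg e) * P.F2 (dg k)) * w⁻¹ = (w * P.F1 (dg e) * w⁻¹) * (w * P.F2 (dg k) * w⁻¹) by group]
  have same1 : ∀ e, P.F1 (wS x y t) * P.F1 (dg e) * (P.F1 (wS x y t))⁻¹ ∈ Tor P := fun e => by
    obtain ⟨e', he⟩ := conj_dg P ⟨_, wS_mem P h ht hd⟩ e
    rw [← map_inv, ← map_mul, ← map_mul, he]; exact F1_dg_mem P e'
  have same2 : ∀ e, P.F2 (wS x y t) * P.F2 (dg e) * (P.F2 (wS x y t))⁻¹ ∈ Tor P := fun e => by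
    obtain ⟨e', he⟩ := conj_dg P ⟨_, wS_mem P h ht hd⟩ e
    rw [← map_inv, ← map_mul, ← map_mul, he]; exact F2_dg_mem P e'
  rcases hd with ⟨hx, hy⟩ | ⟨hx, hy⟩
  · have e1 : w = P.F1 (wS x y t) := by
      cases f
      · rw [hw, wS_top P hx hy]; rfl
      · exact hw
    refine mul_mem (e1 ▸ same1 e) ?_
    rw [e1, wS_top P hx hy]; exact same2 k
  subst hx; subst hy
  obtain ⟨e', he', e1⟩ := split_hp P.hcd e
  obtain ⟨k', hk', k1⟩ := split_hp P.hcd k
  cases f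
  · have hw2 : w = P.F2 (wS P.c P.d t) := hw
    refine mul_mem ?_ (hw2 ▸ same2 k)
    rw [e1, map_mul, map_mul, F_eq P he', show w * (P.F2 (dg e') * P.F1 (dg (hp P.c P.d (e.1 P.d)⁻¹))) * w⁻¹ =
      (w * P.F2 (dg e') * w⁻¹) * (w * P.F1 (dg (hp P.c P.d (e.1 P.d)⁻¹)) * w⁻¹) by group]
    refine mul_mem (hw2 ▸ same2 e') ?_
    rw [hw2, dg_hp P.hcd, map_mul, (((mid_wS P _ t).mul_left (mid_wS P _ t)).symm).eq, mul_inv_cancel_right,
      ← map_mul, ← dg_hp P.hcd]
    exact F1_dg_mem P _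
  · have hw1 : w = P.F1 (wS P.c P.d t) := hw
    refine mul_mem (hw1 ▸ same1 e) ?_
    rw [k1, map_mul, map_mul, ← F_eq P hk', show w * (P.F1 (dg k') * P.F2 (dg (hp P.c P.d (k.1 P.d)⁻¹))) * w⁻¹ =
      (w * P.F1 (dg k') * w⁻¹) * (w * P.F2 (dg (hp P.c P.d (k.1 P.d)⁻¹)) * w⁻¹) by group]
    refine mul_mem (hw1 ▸ same1 k') ?_
    rw [hw1, dg_hp P.hcd, map_mul, ((mid_wS P t _).mul_right (mid_wS P t _)).eq, mul_inv_cancel_right,
      ← map_mul, ← dg_hp P.hcd]
    exact F2_dg_mem P _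

theorem F_normal (f : Bool) {A : SpecialLinearGroup (Fin m) F} (hA : A ∈ MS P) :
    (bif f then P.F1 else P.F2) A ∈ Subgroup.normalizer (Tor P : Set E) := by
  refine (?_ : MS P ≤ (Subgroup.normalizer (Tor P : Set E)).comap (bif f then P.F1 else P.F2)) hA
  refine (Subgroup.closure_le _).2 ?_
  rintro _ ⟨x, y, t, h, ht, hd, rfl⟩
  refine Subgroup.mem_normalizer_iff.2 fun z => ⟨fun hz => wS_normal P f h ht hd hz, fun hz => ?_⟩
  have := wS_normal P f h (neg_ne_zero.2 ht) hd hz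
  rw [← wS_inv h, map_inv] at this
  simpa [mul_assoc] using this

/-- The normaliser of the torus. -/
abbrev Nm : Subgroup E := Subgroup.normalizer (Tor P : Set E)

/-- The quotient of the normaliser. -/
abbrev Qt := Nm P ⧸ (Tor P).subgroupOf (Nm P)

/-- The class. -/
noncomputable abbrev cls : Nm P →* Qt P := QuotientGroup.mk' _

/-- The monomial group in the quotient. -/
noncomputable def blk (f : Bool) : MS P →* Qt P :=
  (cls P).comp (((bif f then P.F1 else P.F2).comp (MS P).subtype).codRestrict _ fun A => F_normal P f A.2)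

theorem blk_ker (f : Bool) : (perm P).ker ≤ (blk P f).ker := fun A hA => by
  have h := MP_perm P A
  rw [MonoidHom.mem_ker.1 hA, map_one] at h
  obtain ⟨e, he⟩ := eq_dg h
  rw [MonoidHom.mem_ker]
  refine (QuotientGroup.eq_one_iff _).2 (Subgroup.mem_subgroupOf.2 ?_)
  show (bif f then P.F1 else P.F2) A.1 ∈ Tor P
  rw [he]
  cases f
  exacts [F2_dg_mem P e, F1_dg_mem P e]

/-- The symmetric group in the quotient. -/
noncomputable def sym (f : Bool) : Equiv.Perm (Fin m) →* Qt P :=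
  (perm P).liftOfSurjective (perm_surjective P) ⟨blk P f, blk_ker P f⟩

theorem sym_perm (f : Bool) (A : MS P) : sym P f (perm P A) = blk P f A :=
  MonoidHom.liftOfRightInverse_comp_apply _ _ _ _ _

theorem sym_hyp : Signed.Hyp (sym P true) (sym P false) P.d where
  fix σ hσ := by
    have h1 : ∀ x, σ x ≠ P.d ↔ x ≠ P.d := fun x =>
      ⟨fun h e => h (e ▸ hσ), fun h e => h (σ.injective (e.trans hσ.symm))⟩
    rw [← Equiv.Perm.ofSubtype_subtypePerm (p := fun x => x ≠ P.d) (f := σ) h1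
      fun x hx (e : x = P.d) => hx (by rw [e, hσ])]
    induction (σ.subtypePerm (p := fun x => x ≠ P.d) h1) using Equiv.Perm.swap_induction_on with
    | one => simp
    | swap_mul τ x y hxy ih =>
      rw [map_mul, map_mul, map_mul, ih, Equiv.Perm.ofSubtype_swap_eq]
      congr 1
      have hne : x.1 ≠ y.1 := fun e => hxy (Subtype.ext e)
      have hd : (x.1 ≠ P.d ∧ y.1 ≠ P.d) ∨ (x.1 = P.c ∧ y.1 = P.d) := Or.inl ⟨x.2, y.2⟩
      rw [← perm_wS P hne (one_ne_zero (α := F)) hd, sym_perm, sym_perm]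
      exact congrArg (cls P) (Subtype.ext (wS_top P x.2 y.2 1))
  comm i hi := by
    have hcd : Commute (sym P true (Equiv.swap P.c P.d)) (sym P false (Equiv.swap P.c P.d)) := by
      rw [← perm_wS P P.hcd (one_ne_zero (α := F)) (Or.inr ⟨rfl, rfl⟩), sym_perm, sym_perm]
      exact (show Commute (⟨_, F_normal P true (wS_mem P P.hcd (one_ne_zero (α := F)) (Or.inr ⟨rfl, rfl⟩))⟩ : Nm P)
        ⟨_, F_normal P false (wS_mem P P.hcd one_ne_zero (Or.inr ⟨rfl, rfl⟩))⟩ from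
          Subtype.ext (mid_wS P 1 1).eq).map (cls P)
    by_cases hic : i = P.c
    · rw [hic]; exact hcd
    have hs : sym P true (Equiv.swap i P.c) = sym P false (Equiv.swap i P.c) := by
      have hd : (i ≠ P.d ∧ P.c ≠ P.d) ∨ (i = P.c ∧ P.c = P.d) := Or.inl ⟨hi, P.hcd⟩
      rw [← perm_wS P hic (one_ne_zero (α := F)) hd, sym_perm, sym_perm]
      exact congrArg (cls P) (Subtype.ext (wS_top P hi P.hcd 1))
    have e := Equiv.swap_apply_apply (Equiv.swap i P.c) P.c P.d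
    rw [Equiv.swap_apply_right, Equiv.swap_apply_of_ne_of_ne (Ne.symm hi) P.hcd.symm] at e
    rw [e, map_mul, map_mul, map_mul, map_mul, map_inv, map_inv, ← hs]
    exact (SemiconjBy.conj_iff).2 hcd

variable {P} {π : E →* Oplus m F}
  (hp1 : ∀ A, π (P.F1 A) = lev m F A)
  (hp2 : ∀ A, π (P.F2 A) = flip m F P.d * lev m F A * (flip m F P.d)⁻¹)

/-- The permutation of a class. -/
def Has (π : E →* Oplus m F) (q : Qt P) (ρ : Equiv.Perm Ix) : Prop :=
  ∃ g : Nm P, cls P g = q ∧ MP (π g.1) ρ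

theorem has_mul (x y : Qt P) (ρ ρ' : Equiv.Perm Ix) (hx : Has π x ρ) (hy : Has π y ρ') :
    Has π (x * y) (ρ * ρ') := by
  obtain ⟨g, rfl, hg⟩ := hx
  obtain ⟨g', rfl, hg'⟩ := hy
  exact ⟨g * g', map_mul _ _ _, by rw [Subgroup.coe_mul, map_mul]; exact hg.mul hg'⟩

include hp1 hp2 in
theorem has_unique (x : Qt P) (ρ ρ' : Equiv.Perm Ix) (hx : Has π x ρ) (hy : Has π x ρ') : ρ = ρ' := by
  obtain ⟨g, rfl, hg⟩ := hx
  obtain ⟨g', e, hg'⟩ := hy
  have hmem : (g'⁻¹ * g).1 ∈ Tor P := Subgroup.mem_subgroupOf.1 (QuotientGroup.eq.1 e)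
  have h := MP_tor hp1 hp2 hmem
  have h2 := hg'.mul h
  rw [mul_one, ← map_mul, show (g'.1 * (g'⁻¹ * g).1) = g.1 by simp] at h2
  exact MP_unique hg h2

include hp1 in
theorem has_sym (σ : Equiv.Perm (Fin m)) : Has π (sym P true σ) (dbl m σ) := by
  obtain ⟨A, rfl⟩ := perm_surjective P σ
  exact ⟨⟨_, F_normal P true A.2⟩, (sym_perm P true A).symm, by
    show MP (π (P.F1 A.1)) _
    rw [hp1]; exact MP_perm P A⟩

include hp2 in
theorem has_sym' (σ : Equiv.Perm (Fin m)) : Has π (sym P false σ) (tau P * dbl m σ * tau P) := by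
  obtain ⟨A, rfl⟩ := perm_surjective P σ
  refine ⟨⟨_, F_normal P false A.2⟩, (sym_perm P false A).symm, ?_⟩
  show MP (π (P.F2 A.1)) _
  rw [hp2, flip_inv]
  exact ((flip_MP P.d).mul (MP_perm P A)).mul (flip_MP P.d)

include hp1 hp2 in
/-- A Weyl element diagonal downstairs lies in the torus. -/
theorem mem_tor_of_MP (h3 : 3 ≤ m) (hd : P.d.val + 1 = m) (hc : P.c.val + 2 = m) {g : E}
    (hg : g ∈ (datum P h3 hd hc).N) (h1 : MP (π g) 1) : g ∈ Tor P := by
  obtain ⟨S, hS⟩ : ∃ S, S = (((sym P true).range ⊔ (sym P false).range).comap (cls P)).map (Nm P).subtype :=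
    ⟨_, rfl⟩
  have hle : (datum P h3 hd hc).N ≤ S := by
    refine (Subgroup.closure_le _).2 (Set.iUnion_subset fun o => ?_)
    cases o with
    | some i =>
      rintro _ ⟨t, ht, rfl⟩
      have hdj : (i.1 ≠ P.d ∧ nx P hd i ≠ P.d) ∨ (i.1 = P.c ∧ nx P hd i = P.d) := by
        by_cases hn : nx P hd i = P.d
        · refine Or.inr ⟨Fin.ext ?_, hn⟩
          have := congrArg Fin.val hn
          simp [nx] at this
          omega
        · exact Or.inl ⟨i.2, hn⟩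
      have hA := wS_mem P (nx_ne P hd i) ht hdj
      rw [hS]
      refine ⟨⟨_, F_normal P true hA⟩, Subgroup.mem_sup_left ⟨perm P ⟨_, hA⟩, ?_⟩, rfl⟩
      exact sym_perm P true ⟨_, hA⟩
    | none =>
      rintro _ ⟨t, ht, rfl⟩
      have hA := wS_mem P P.hcd ht (Or.inr ⟨rfl, rfl⟩)
      rw [hS]
      refine ⟨⟨_, F_normal P false hA⟩, Subgroup.mem_sup_right ⟨perm P ⟨_, hA⟩, ?_⟩, rfl⟩
      exact sym_perm P false ⟨_, hA⟩
  have hgS := hle hg
  rw [hS] at hgS
  obtain ⟨g, hq, rfl⟩ := hgS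
  refine Subgroup.mem_subgroupOf.1 ((QuotientGroup.eq_one_iff g).1 ?_)
  refine Signed.eq_one (sym_hyp P) (Has π) ⟨1, map_one _, by rw [OneMemClass.coe_one, map_one]; exact MP.one⟩
    has_mul (has_unique hp1 hp2) (has_sym hp1) (fun i hi => ?_) hq ⟨g, rfl, h1⟩
  refine ⟨_, has_mul _ _ _ _ (has_sym hp1 _) (has_sym' hp2 _), ?_, ?_, fun j hji hjd => ⟨?_, ?_⟩⟩
  all_goals
    simp [dbl, tau_inl_d, tau_inr_d, tau_inl, tau_inr, Equiv.swap_apply_of_ne_of_ne, *]

end Cfsg.Agent.PlusMult
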